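import Mathlib

/-!
# Two primes between `m` and `2m`

A refinement of Bertrand's postulate: for `m ≥ 6` there are two primes `p < p'` in `(m, 2m]`.
-/

set_option autoImplicit false

namespace Cfsg.Agent.H363.TwoPrimes

open Nat Finset

/-- The primes of the interval `(n, 2n]`. -/
def T (n : ℕ) : Finset ℕ := {p ∈ Finset.Ioc n (2 * n) | Nat.Prime p}

/-- An upper bound for the central binomial coefficient by the number of primes in `(n, 2n]`. -/
theorem centralBinom_le (n : ℕ) (hn : 2 < n) :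
    centralBinom n ≤ (2 * n) ^ sqrt (2 * n) * 4 ^ (2 * n / 3) * (2 * n) ^ (T n).card := by
  have n2_pos : 1 ≤ 2 * n := by omega
  set f : ℕ → ℕ := fun x => x ^ n.centralBinom.factorization x with hf
  have hle : ∀ p, f p ≤ 2 * n := fun p => pow_factorization_choose_le (by omega)
  have hsplit : centralBinom n
      = (∏ p ∈ Finset.range (2 * n / 3 + 1), f p) * ∏ p ∈ T n, f p := by
    rw [← n.prod_pow_factorization_centralBinom]
    have hdisj : Disjoint (Finset.range (2 * n / 3 + 1)) (T n) := by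
      rw [Finset.disjoint_left]
      intro p hp hp'
      simp only [Finset.mem_range, T, Finset.mem_filter, Finset.mem_Ioc] at hp hp'
      omega
    rw [← Finset.prod_union hdisj]
    symm
    apply Finset.prod_subset
    · intro p hp
      simp only [Finset.mem_union, Finset.mem_range, T, Finset.mem_filter, Finset.mem_Ioc] at hp ⊢
      omega
    · intro p hp hp'
      simp only [Finset.mem_union, Finset.mem_range, T, Finset.mem_filter, Finset.mem_Ioc,
        not_or, not_and] at hp hp'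
      by_cases hpr : p.Prime
      · have h1 : p ≤ n := by
          by_contra h
          exact hp'.2 ⟨by omega, by omega⟩ hpr
        show p ^ _ = 1
        rw [factorization_centralBinom_of_two_mul_self_lt_three_mul hn h1 (by omega), Nat.pow_zero]
      · show p ^ _ = 1
        rw [factorization_eq_zero_of_not_prime n.centralBinom hpr, Nat.pow_zero]
  rw [hsplit]
  apply Nat.mul_le_mul
  · let S := {p ∈ Finset.range (2 * n / 3 + 1) | Nat.Prime p}
    have : ∏ x ∈ S, f x = ∏ x ∈ Finset.range (2 * n / 3 + 1), f x := by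
      refine Finset.prod_filter_of_ne fun p _ h => ?_
      contrapose h; dsimp only [f]
      rw [factorization_eq_zero_of_not_prime n.centralBinom h, _root_.pow_zero]
    rw [← this, ← Finset.prod_filter_mul_prod_filter_not S (· ≤ sqrt (2 * n))]
    apply mul_le_mul'
    · refine (Finset.prod_le_prod' fun p _ => (hle p : f p ≤ 2 * n)).trans ?_
      have : (Finset.Icc 1 (sqrt (2 * n))).card = sqrt (2 * n) := by
        rw [card_Icc, Nat.add_sub_cancel]
      rw [Finset.prod_const]
      refine pow_right_mono₀ n2_pos ((Finset.card_le_card fun x hx => ?_).trans this.le)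
      obtain ⟨h1, h2⟩ := Finset.mem_filter.1 hx
      exact Finset.mem_Icc.mpr ⟨(Finset.mem_filter.1 h1).2.one_lt.le, h2⟩
    · refine le_trans ?_ (primorial_le_four_pow (2 * n / 3))
      refine (Finset.prod_le_prod' fun p hp => (?_ : f p ≤ p)).trans ?_
      · obtain ⟨h1, h2⟩ := Finset.mem_filter.1 hp
        refine (pow_right_mono₀ (Finset.mem_filter.1 h1).2.one_lt.le ?_).trans (pow_one p).le
        exact Nat.factorization_choose_le_one (sqrt_lt'.mp <| not_le.1 h2)
      refine Finset.prod_le_prod_of_subset_of_one_le' (Finset.filter_subset _ _) ?_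
      exact fun p hp _ => (Finset.mem_filter.1 hp).2.one_lt.le
  · calc ∏ p ∈ T n, f p ≤ ∏ p ∈ T n, (2 * n) := Finset.prod_le_prod' fun p _ => hle p
      _ = (2 * n) ^ (T n).card := by rw [Finset.prod_const]

/-- `(s + 1)^10 ≤ 2^s` for `s ≥ 64`. -/
theorem pow_ten_le (s : ℕ) (hs : 64 ≤ s) : (s + 1) ^ 10 ≤ 2 ^ s := by
  induction s, hs using Nat.le_induction with
  | base => norm_num
  | succ s hs ih =>
    have h1 : (s + 1 + 1) ^ 10 ≤ 2 * (s + 1) ^ 10 := by
      have h2 : 14 * (s + 1 + 1) ≤ 15 * (s + 1) := by omega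
      have h3 : (14 * (s + 1 + 1)) ^ 10 ≤ (15 * (s + 1)) ^ 10 := Nat.pow_le_pow_left h2 10
      rw [mul_pow, mul_pow] at h3
      have h4 : (15 : ℕ) ^ 10 ≤ 2 * 14 ^ 10 := by norm_num
      have h5 : 14 ^ 10 * (s + 1 + 1) ^ 10 ≤ 14 ^ 10 * (2 * (s + 1) ^ 10) := by
        calc 14 ^ 10 * (s + 1 + 1) ^ 10 ≤ 15 ^ 10 * (s + 1) ^ 10 := h3
          _ ≤ 2 * 14 ^ 10 * (s + 1) ^ 10 := Nat.mul_le_mul_right _ h4
          _ = 14 ^ 10 * (2 * (s + 1) ^ 10) := by ring
      exact Nat.le_of_mul_le_mul_left h5 (by norm_num)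
    calc (s + 1 + 1) ^ 10 ≤ 2 * (s + 1) ^ 10 := h1
      _ ≤ 2 * 2 ^ s := Nat.mul_le_mul_left _ ih
      _ = 2 ^ (s + 1) := by ring

theorem main_inequality (n : ℕ) (hn : 2048 ≤ n) :
    n * ((2 * n) ^ sqrt (2 * n) * 4 ^ (2 * n / 3) * (2 * n)) ≤ 4 ^ n := by
  set s := sqrt (2 * n) with hs
  have hs64 : 64 ≤ s := by
    rw [hs, Nat.le_sqrt]
    omega
  have hlt : 2 * n < (s + 1) * (s + 1) := Nat.lt_succ_sqrt (2 * n)
  have hle : s * s ≤ 2 * n := Nat.sqrt_le (2 * n)
  set k := n - 2 * n / 3 with hk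
  have hk1 : 10 * k ≥ s * (s + 2) := by
    have h1 : 3 * k ≥ n := by omega
    nlinarith
  have h1 : (s + 1) ^ (s + 2) ≤ 2 ^ k := by
    have h2 : ((s + 1) ^ (s + 2)) ^ 10 ≤ (2 ^ k) ^ 10 := by
      calc ((s + 1) ^ (s + 2)) ^ 10 = ((s + 1) ^ 10) ^ (s + 2) := by
            rw [← pow_mul, ← pow_mul, Nat.mul_comm]
        _ ≤ (2 ^ s) ^ (s + 2) := Nat.pow_le_pow_left (pow_ten_le s hs64) _
        _ = 2 ^ (s * (s + 2)) := by rw [← pow_mul]
        _ ≤ 2 ^ (10 * k) := Nat.pow_le_pow_right (by norm_num) hk1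
        _ = (2 ^ k) ^ 10 := by rw [← pow_mul, Nat.mul_comm]
    exact (Nat.pow_le_pow_iff_left (by norm_num)).mp h2
  have h3 : (2 * n) ^ (s + 2) ≤ 4 ^ k := by
    calc (2 * n) ^ (s + 2) ≤ ((s + 1) * (s + 1)) ^ (s + 2) := Nat.pow_le_pow_left hlt.le _
      _ = (s + 1) ^ (s + 2) * (s + 1) ^ (s + 2) := by rw [mul_pow]
      _ ≤ 2 ^ k * 2 ^ k := Nat.mul_le_mul h1 h1
      _ = 4 ^ k := by rw [← mul_pow]; norm_num
  calc n * ((2 * n) ^ s * 4 ^ (2 * n / 3) * (2 * n))
      ≤ (2 * n) * ((2 * n) ^ s * 4 ^ (2 * n / 3) * (2 * n)) := Nat.mul_le_mul_right _ (by omega)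
    _ = (2 * n) ^ (s + 2) * 4 ^ (2 * n / 3) := by ring
    _ ≤ 4 ^ k * 4 ^ (2 * n / 3) := Nat.mul_le_mul_right _ h3
    _ = 4 ^ (k + 2 * n / 3) := by rw [← pow_add]
    _ = 4 ^ n := by congr 1; omega

/-- For large `n` there are at least two primes in `(n, 2n]`. -/
theorem two_le_card_T (n : ℕ) (hn : 2048 ≤ n) : 2 ≤ (T n).card := by
  by_contra h
  have h1 : (T n).card ≤ 1 := by omega
  have h2 : 4 ^ n < n * n.centralBinom := Nat.four_pow_lt_mul_centralBinom n (by omega)
  have h3 : centralBinom n ≤ (2 * n) ^ sqrt (2 * n) * 4 ^ (2 * n / 3) * (2 * n) := by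
    refine (centralBinom_le n (by omega)).trans ?_
    apply Nat.mul_le_mul_left
    calc (2 * n) ^ (T n).card ≤ (2 * n) ^ 1 := Nat.pow_le_pow_right (by omega) h1
      _ = 2 * n := pow_one _
  have h4 := main_inequality n hn
  have h5 : n * n.centralBinom ≤ 4 ^ n := (Nat.mul_le_mul_left n h3).trans h4
  omega

theorem step {m : ℕ} (q p p' : ℕ) (hp : p.Prime) (hp' : p'.Prime) (hlt : p < p')
    (hcov : p' ≤ 2 * q)
    (H : m < q → ∃ r s : ℕ, r.Prime ∧ s.Prime ∧ m < r ∧ r < s ∧ s ≤ 2 * m) (hm : m < p) :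
    ∃ r s : ℕ, r.Prime ∧ s.Prime ∧ m < r ∧ r < s ∧ s ≤ 2 * m := by
  by_cases h : m < q
  · exact H h
  · exact ⟨p, p', hp, hp', hm, hlt, by omega⟩

/-- **Two primes**: for `m ≥ 6` there are two primes in `(m, 2m]`. -/
theorem exists_two_primes (m : ℕ) (hm : 6 ≤ m) :
    ∃ r s : ℕ, r.Prime ∧ s.Prime ∧ m < r ∧ r < s ∧ s ≤ 2 * m := by
  rcases Nat.lt_or_ge m 2048 with h | h
  · replace h : m < 2053 := by omega
    revert h
    refine step 1439 2053 2069 (by norm_num) (by norm_num) (by norm_num) (by norm_num) ?_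
    refine step 1039 1439 2063 (by norm_num) (by norm_num) (by norm_num) (by norm_num) ?_
    refine step 727 1039 1447 (by norm_num) (by norm_num) (by norm_num) (by norm_num) ?_
    refine step 523 727 1039 (by norm_num) (by norm_num) (by norm_num) (by norm_num) ?_
    refine step 367 523 727 (by norm_num) (by norm_num) (by norm_num) (by norm_num) ?_
    refine step 263 367 523 (by norm_num) (by norm_num) (by norm_num) (by norm_num) ?_
    refine step 191 263 373 (by norm_num) (by norm_num) (by norm_num) (by norm_num) ?_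
    refine step 137 191 271 (by norm_num) (by norm_num) (by norm_num) (by norm_num) ?_
    refine step 101 137 199 (by norm_num) (by norm_num) (by norm_num) (by norm_num) ?_
    refine step 73 101 139 (by norm_num) (by norm_num) (by norm_num) (by norm_num) ?_
    refine step 53 73 103 (by norm_num) (by norm_num) (by norm_num) (by norm_num) ?_
    refine step 41 53 79 (by norm_num) (by norm_num) (by norm_num) (by norm_num) ?_
    refine step 31 41 61 (by norm_num) (by norm_num) (by norm_num) (by norm_num) ?_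
    refine step 23 31 43 (by norm_num) (by norm_num) (by norm_num) (by norm_num) ?_
    refine step 17 23 31 (by norm_num) (by norm_num) (by norm_num) (by norm_num) ?_
    refine step 13 17 23 (by norm_num) (by norm_num) (by norm_num) (by norm_num) ?_
    refine step 11 13 17 (by norm_num) (by norm_num) (by norm_num) (by norm_num) ?_
    refine step 7 11 13 (by norm_num) (by norm_num) (by norm_num) (by norm_num) ?_
    refine step 6 7 11 (by norm_num) (by norm_num) (by norm_num) (by norm_num) ?_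
    intro h
    omega
  · have h2 := two_le_card_T m h
    obtain ⟨a, ha, b, hb, hab⟩ := Finset.one_lt_card.mp (by omega : 1 < (T m).card)
    simp only [T, Finset.mem_filter, Finset.mem_Ioc] at ha hb
    rcases lt_or_gt_of_ne hab with h' | h'
    · exact ⟨a, b, ha.2, hb.2, ha.1.1, h', hb.1.2⟩
    · exact ⟨b, a, hb.2, ha.2, hb.1.1, h', ha.1.2⟩

/-- For `n ≥ 11` there are two primes `r < s ≤ n` with `n < 2 r`. -/
theorem exists_two_primes' (n : ℕ) (hn : 11 ≤ n) :
    ∃ r s : ℕ, r.Prime ∧ s.Prime ∧ n < 2 * r ∧ r < s ∧ s ≤ n := by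
  by_cases h11 : n = 11
  · exact ⟨7, 11, by norm_num, by norm_num, by omega, by omega, by omega⟩
  · obtain ⟨r, s, hr, hs, h1, h2, h3⟩ := exists_two_primes (n / 2) (by omega)
    exact ⟨r, s, hr, hs, by omega, h2, by omega⟩

end Cfsg.Agent.H363.TwoPrimes
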