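import Mathlib
import Cfsg.Agent.H363.Frat

/-!
# Unipotent elements commuting with elements of large period

`g` an endomorphism of prime power order `ℓ ^ (j + 1)` of a space of dimension `n ≥ 3` over a field
with `q` elements, where the order of `q` modulo `ℓ ^ (j + 1)` is at least `n - 1`: a unipotent
endomorphism commuting with `g` is trivial.
-/

set_option autoImplicit false

namespace Cfsg.Agent.H363.CommUnip

open Module

theorem pow_dvd_card {X : Type*} [Finite X] (g : Equiv.Perm X) {l j : ℕ} (hl : l.Prime)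
    (hg : g ^ l ^ (j + 1) = 1) (hfree : ∀ x, (g ^ l ^ j) x ≠ x) : l ^ (j + 1) ∣ Nat.card X := by
  rcases isEmpty_or_nonempty X with hX | ⟨⟨x0⟩⟩
  · rw [Nat.card_of_isEmpty]; exact dvd_zero _
  have hord : orderOf g = l ^ (j + 1) := by
    have : Fact l.Prime := ⟨hl⟩
    exact orderOf_eq_prime_pow (fun h => hfree x0 (by rw [h]; rfl)) hg
  have h1 := Cfsg.Agent.H363.Frat.card_dvd_of_free (A := Subgroup.zpowers g) (Y := X) (by
    rintro ⟨a, ha⟩ x hx
    obtain ⟨i, hi⟩ := Subgroup.mem_zpowers_iff.mp ha
    apply Subtype.ext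
    show a = 1
    have hx' : a x = x := hx
    by_contra hne
    rw [← hi] at hx' hne
    -- `gcd (i, l^(j+1))` divides `l ^ j`
    have hnd : ¬ ((l ^ (j + 1) : ℕ) : ℤ) ∣ i := by
      intro hd
      apply hne
      rw [← orderOf_dvd_iff_zpow_eq_one, hord]
      exact hd
    have hgcd : Int.gcd i ((l ^ (j + 1) : ℕ) : ℤ) ∣ l ^ j := by
      have h2 : Int.gcd i ((l ^ (j + 1) : ℕ) : ℤ) ∣ l ^ (j + 1) := by
        have := Int.gcd_dvd_right i ((l ^ (j + 1) : ℕ) : ℤ)
        exact_mod_cast this
      obtain ⟨k, hk, hk'⟩ := (Nat.dvd_prime_pow hl).mp h2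
      rw [hk']
      apply pow_dvd_pow
      rcases Nat.lt_or_ge k (j + 1) with h | h
      · omega
      · exfalso
        have : k = j + 1 := by omega
        rw [this] at hk'
        apply hnd
        have := Int.gcd_dvd_left i ((l ^ (j + 1) : ℕ) : ℤ)
        rw [hk'] at this
        exact this
    apply hfree x
    -- stabilizer of `x`
    have h3 : g ^ i ∈ MulAction.stabilizer (Equiv.Perm X) x := hx'
    have h4 : g ^ ((l ^ (j + 1) : ℕ) : ℤ) ∈ MulAction.stabilizer (Equiv.Perm X) x := by
      rw [zpow_natCast, hg]; exact one_mem _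
    have h5 : g ^ ((Int.gcd i ((l ^ (j + 1) : ℕ) : ℤ) : ℤ)) ∈
        MulAction.stabilizer (Equiv.Perm X) x := by
      rw [Int.gcd_eq_gcd_ab, zpow_add, zpow_mul, zpow_mul]
      exact mul_mem (zpow_mem h3 _) (zpow_mem h4 _)
    rw [zpow_natCast] at h5
    obtain ⟨c, hc⟩ := hgcd
    have h6 : g ^ l ^ j ∈ MulAction.stabilizer (Equiv.Perm X) x := by
      rw [hc, pow_mul]
      exact pow_mem h5 _
    exact h6)
  rw [Nat.card_zpowers, hord] at h1
  exact h1

variable {F V : Type*} [Field F] [Finite F] [AddCommGroup V] [Module F V] [FiniteDimensional F V]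

/-- Counting the points of an invariant subspace. -/
theorem card_modEq (g : Module.End F V) {l j : ℕ} (hl : l.Prime) (hg : g ^ l ^ (j + 1) = 1)
    (W : Submodule F V) (hW : ∀ w ∈ W, g w ∈ W) :
    Nat.card F ^ finrank F W ≡
      Nat.card F ^ finrank F (W ⊓ LinearMap.ker (g ^ l ^ j - 1) : Submodule F V)
        [MOD l ^ (j + 1)] := by
  classical
  have : Finite V := Module.finite_of_finite F
  set C := LinearMap.ker (g ^ l ^ j - 1) with hC
  have hpos : 0 < l ^ (j + 1) := pow_pos hl.pos _
  have hpowW : ∀ (n : ℕ) (w : V), w ∈ W → (g ^ n) w ∈ W := by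
    intro n
    induction n with
    | zero => intro w hw; exact hw
    | succ n ih =>
      intro w hw
      rw [pow_succ]
      exact ih _ (hW w hw)
  have hmemC : ∀ v : V, v ∈ C ↔ (g ^ l ^ j) v = v := by
    intro v
    rw [hC, LinearMap.mem_ker, LinearMap.sub_apply, Module.End.one_apply, sub_eq_zero]
  have hCinv : ∀ v : V, g v ∈ C ↔ v ∈ C := by
    intro v
    rw [hmemC, hmemC]
    have h1 : (g ^ l ^ j) (g v) = g ((g ^ l ^ j) v) := by
      rw [← Module.End.mul_apply, ← Module.End.mul_apply, (Commute.self_pow g (l ^ j)).eq]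
    rw [h1]
    constructor
    · intro h
      have hinj : Function.Injective g := by
        intro a b hab
        have h2 : ∀ c : V, (g ^ l ^ (j + 1)) c = c := fun c => by rw [hg]; rfl
        obtain ⟨k, hk⟩ : ∃ k, l ^ (j + 1) = k + 1 := ⟨l ^ (j + 1) - 1, by omega⟩
        rw [← h2 a, ← h2 b, hk, pow_succ, Module.End.mul_apply, Module.End.mul_apply, hab]
      exact hinj h
    · intro h; rw [h]
  let X := {v : V // v ∈ W ∧ v ∉ C}
  let f : X → X := fun x => ⟨g x.1, hW _ x.2.1, fun h => x.2.2 ((hCinv _).mp h)⟩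
  have hf : ∀ (n : ℕ) (x : X), ((f^[n]) x : V) = (g ^ n) (x : V) := by
    intro n
    induction n with
    | zero => intro x; rfl
    | succ n ih =>
      intro x
      rw [Function.iterate_succ_apply, ih, pow_succ]
      rfl
  obtain ⟨k, hk⟩ : ∃ k, l ^ (j + 1) = k + 1 := ⟨l ^ (j + 1) - 1, by omega⟩
  let P : Equiv.Perm X :=
    { toFun := f
      invFun := f^[k]
      left_inv := fun x => by
        apply Subtype.ext
        rw [← Function.iterate_succ_apply, hf, Nat.succ_eq_add_one, ← hk, hg]; rfl
      right_inv := fun x => by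
        apply Subtype.ext
        rw [← Function.iterate_succ_apply' f, hf, Nat.succ_eq_add_one, ← hk, hg]; rfl }
  have hP : ∀ (n : ℕ) (x : X), ((P ^ n) x : V) = (g ^ n) (x : V) := by
    intro n x
    rw [← Equiv.Perm.iterate_eq_pow]
    exact hf n x
  have h1 : l ^ (j + 1) ∣ Nat.card X := by
    apply pow_dvd_card P hl
    · ext x
      rw [hP, hg]; rfl
    · intro x hx
      apply x.2.2
      rw [hmemC]
      have := congrArg Subtype.val hx
      rwa [hP] at this
  have h2 : Nat.card W = Nat.card (W ⊓ C : Submodule F V) + Nat.card X := by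
    have e : W ≃ (W ⊓ C : Submodule F V) ⊕ X :=
      { toFun := fun w => if h : (w : V) ∈ C then Sum.inl ⟨w, w.2, h⟩ else Sum.inr ⟨w, w.2, h⟩
        invFun := Sum.elim (fun w => ⟨w.1, w.2.1⟩) (fun x => ⟨x.1, x.2.1⟩)
        left_inv := fun w => by
          by_cases h : (w : V) ∈ C
          · simp [h]
          · simp [h]
        right_inv := fun x => by
          rcases x with x | x
          · have : (x : V) ∈ C := x.2.2
            simp [this]
          · have : (x : V) ∉ C := x.2.2
            simp [this] }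
    rw [Nat.card_congr e, Nat.card_sum]
  have h3 : ∀ U : Submodule F V, Nat.card U = Nat.card F ^ finrank F U := fun U =>
    Module.natCard_eq_pow_finrank (K := F) (V := U)
  rw [← h3, ← h3, h2]
  exact ((Nat.modEq_zero_iff_dvd.mpr h1).add_left _)

/-- Dimensions of invariant subspaces. -/
theorem dvd_finrank_sub (g : Module.End F V) {l j e : ℕ} (hl : l.Prime)
    (hg : g ^ l ^ (j + 1) = 1) (hlq : ¬ l ∣ Nat.card F)
    (he : ∀ d, l ^ (j + 1) ∣ Nat.card F ^ d - 1 → e ∣ d)
    (W : Submodule F V) (hW : ∀ w ∈ W, g w ∈ W) :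
    e ∣ finrank F W - finrank F (W ⊓ LinearMap.ker (g ^ l ^ j - 1) : Submodule F V) := by
  have h := card_modEq g hl hg W hW
  set a := finrank F W
  set b := finrank F (W ⊓ LinearMap.ker (g ^ l ^ j - 1) : Submodule F V)
  have hba : b ≤ a := Submodule.finrank_mono inf_le_left
  apply he
  have hq : 0 < Nat.card F := Nat.card_pos
  have h1 : l ^ (j + 1) ∣ Nat.card F ^ a - Nat.card F ^ b :=
    (Nat.modEq_iff_dvd' (Nat.pow_le_pow_right hq hba)).mp h.symm
  have h2 : Nat.card F ^ a - Nat.card F ^ b = Nat.card F ^ b * (Nat.card F ^ (a - b) - 1) := by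
    rw [Nat.mul_sub, mul_one, ← pow_add, Nat.add_sub_cancel' hba]
  rw [h2] at h1
  refine Nat.Coprime.dvd_of_dvd_mul_left ?_ h1
  apply Nat.Coprime.pow
  exact (Nat.Prime.coprime_iff_not_dvd hl).mpr hlq

/-- The main lemma: `u` unipotent, commuting with `g`. -/
theorem eq_one_of_unipotent {C : Submodule F V} {g u : Module.End F V} {e : ℕ}
    (hu : IsNilpotent (u - 1)) (hgu : Commute g u) (hCu : ∀ c ∈ C, u c ∈ C) (hC : C ≠ ⊤)
    (hn : 3 ≤ finrank F V) (he : finrank F V ≤ e + 1)
    (h : ∀ W : Submodule F V, (∀ w ∈ W, g w ∈ W) → e ∣ finrank F W - finrank F (W ⊓ C : Submodule F V)) :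
    u = 1 := by
  by_contra hu1
  set N := u - 1 with hN
  have hcomm : Commute g N := hgu.sub_right (Commute.one_right g)
  have hker : ∀ k : ℕ, ∀ w ∈ LinearMap.ker (N ^ k), g w ∈ LinearMap.ker (N ^ k) := by
    intro k w hw
    rw [LinearMap.mem_ker] at hw ⊢
    rw [← Module.End.mul_apply, ← (hcomm.pow_right k).eq, Module.End.mul_apply, hw, map_zero]
  have hN0 : N ≠ 0 := fun h0 => hu1 (sub_eq_zero.mp h0)
  obtain ⟨K, hK⟩ := hu
  set n := finrank F V with hnd
  have hCn : finrank F C < n := by
    have := Submodule.finrank_lt hC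
    exact this
  have h1 := h ⊤ (fun _ _ => Submodule.mem_top)
  rw [top_inf_eq, finrank_top, ← hnd] at h1
  have h2 : e ≤ n - finrank F C := Nat.le_of_dvd (by omega) h1
  have hC1 : finrank F C ≤ 1 := by omega
  have hne : n - finrank F C = e := by
    obtain ⟨c, hc⟩ := h1
    have hc2 : c < 2 := by
      by_contra hcon
      have : e * 2 ≤ e * c := Nat.mul_le_mul_left e (by omega)
      omega
    have hc0 : c ≠ 0 := by
      rintro rfl
      omega
    have : c = 1 := by omega
    rw [hc, this, mul_one]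
  -- powers
  have hNC : ∀ c ∈ C, N c ∈ C := by
    intro c hc
    rw [hN, LinearMap.sub_apply, Module.End.one_apply]
    exact C.sub_mem (hCu c hc) hc
  have hW1top : LinearMap.ker N ≠ ⊤ := fun h0 => hN0 (LinearMap.ker_eq_top.mp h0)
  have hCW : C ≤ LinearMap.ker N := by
    intro c hc
    rw [LinearMap.mem_ker]
    by_cases hc0 : c = 0
    · rw [hc0, map_zero]
    have hfr : finrank F C = 1 := by
      have : 0 < finrank F C := Module.finrank_pos_iff_exists_ne_zero.mpr ⟨⟨c, hc⟩, fun h0 => hc0 (congrArg Subtype.val h0)⟩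
      omega
    obtain ⟨a, ha⟩ := (finrank_eq_one_iff_of_nonzero' (⟨c, hc⟩ : C) (fun h0 => hc0 (congrArg Subtype.val h0))).mp hfr
      ⟨N c, hNC c hc⟩
    have ha' : a • c = N c := congrArg Subtype.val ha
    have hpow : ∀ k : ℕ, (N ^ k) c = a ^ k • c := by
      intro k
      induction k with
      | zero => simp
      | succ k ih =>
        rw [pow_succ, Module.End.mul_apply, ← ha', map_smul, ih, smul_smul, ← pow_succ']
    have h3 := hpow K
    rw [hK, LinearMap.zero_apply] at h3
    rcases smul_eq_zero.mp h3.symm with h4 | h4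
    · have : a = 0 := eq_zero_of_pow_eq_zero h4
      rw [← ha', this, zero_smul]
    · exact absurd h4 hc0
  have h3 := h (LinearMap.ker N) (by have := hker 1; rwa [pow_one] at this)
  rw [inf_eq_right.mpr hCW] at h3
  have hW1n : finrank F (LinearMap.ker N) < n := Submodule.finrank_lt hW1top
  have hCW' : finrank F C ≤ finrank F (LinearMap.ker N) := Submodule.finrank_mono hCW
  have hW1 : finrank F (LinearMap.ker N) = finrank F C := by
    rcases Nat.eq_zero_or_pos (finrank F (LinearMap.ker N) - finrank F C) with h4 | h4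
    · omega
    · have := Nat.le_of_dvd h4 h3
      omega
  have hW1pos : 0 < finrank F (LinearMap.ker N) := by
    rw [Nat.pos_iff_ne_zero]
    intro h0
    have h5 : LinearMap.ker N = ⊥ := Submodule.finrank_eq_zero.mp h0
    have h6 : Function.Injective N := LinearMap.ker_eq_bot.mp h5
    have h7 : ∀ k : ℕ, Function.Injective ((N ^ k : Module.End F V) : V → V) := by
      intro k
      induction k with
      | zero => exact fun a b hab => hab
      | succ k ih =>
        rw [pow_succ]
        exact ih.comp h6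
    have h8 := h7 K
    rw [hK] at h8
    have : Subsingleton V := ⟨fun a b => h8 rfl⟩
    have := Module.finrank_zero_of_subsingleton (R := F) (M := V)
    omega
  -- second kernel
  have hle : LinearMap.ker N ≤ LinearMap.ker (N ^ 2) := by
    intro v hv
    rw [LinearMap.mem_ker] at hv ⊢
    rw [pow_two, Module.End.mul_apply, hv, map_zero]
  have hlt : LinearMap.ker N ≠ LinearMap.ker (N ^ 2) := by
    intro heq
    have hstab : ∀ k : ℕ, LinearMap.ker (N ^ (k + 1)) = LinearMap.ker N := by
      intro k
      induction k with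
      | zero => rw [zero_add, pow_one]
      | succ k ih =>
        apply le_antisymm
        · intro v hv
          rw [LinearMap.mem_ker] at hv
          have h9 : N v ∈ LinearMap.ker (N ^ (k + 1)) := by
            rw [LinearMap.mem_ker, ← Module.End.mul_apply, ← pow_succ]
            exact hv
          rw [ih, LinearMap.mem_ker] at h9
          rw [heq, LinearMap.mem_ker, pow_two, Module.End.mul_apply]
          exact h9
        · intro v hv
          rw [LinearMap.mem_ker] at hv ⊢
          rw [pow_succ, Module.End.mul_apply, hv, map_zero]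
    apply hW1top
    rw [← hstab K, pow_succ, hK, zero_mul]
    exact LinearMap.ker_zero
  have h4 := h (LinearMap.ker (N ^ 2)) (hker 2)
  rw [inf_eq_right.mpr (hCW.trans hle)] at h4
  have h5 : finrank F (LinearMap.ker N) < finrank F (LinearMap.ker (N ^ 2)) :=
    Submodule.finrank_lt_finrank_of_lt (lt_of_le_of_ne hle hlt)
  have h6 : finrank F (LinearMap.ker (N ^ 2)) ≤ n := Submodule.finrank_le _
  have h7 : e ≤ finrank F (LinearMap.ker (N ^ 2)) - finrank F C := Nat.le_of_dvd (by omega) h4
  have h8 : finrank F (LinearMap.ker (N ^ 2)) = n := by omega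
  have h9 : N ^ 2 = 0 := LinearMap.ker_eq_top.mp (Submodule.eq_top_of_finrank_eq h8)
  have h10 := LinearMap.finrank_range_add_finrank_ker N
  have h11 : finrank F (LinearMap.range N) ≤ finrank F (LinearMap.ker N) := by
    apply Submodule.finrank_mono
    rintro _ ⟨v, rfl⟩
    rw [LinearMap.mem_ker, ← Module.End.mul_apply, ← pow_two, h9]
    rfl
  omega

/-- An element of order `l ^ (j + 1)`, where the order of `q` modulo `l ^ (j + 1)` is at least
`n - 1`, commutes with no nontrivial unipotent element. -/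
theorem eq_one_of_commute {g u : Module.End F V} {l j e : ℕ} (hl : l.Prime)
    (hg : g ^ l ^ (j + 1) = 1) (hg1 : g ^ l ^ j ≠ 1) (hlq : ¬ l ∣ Nat.card F)
    (he : ∀ d, l ^ (j + 1) ∣ Nat.card F ^ d - 1 → e ∣ d) (hn : 3 ≤ finrank F V)
    (hen : finrank F V ≤ e + 1) (hu : IsNilpotent (u - 1)) (hgu : Commute g u) : u = 1 := by
  refine eq_one_of_unipotent (C := LinearMap.ker (g ^ l ^ j - 1)) (g := g) (e := e) hu hgu ?_ ?_ hn
    hen (fun W hW => dvd_finrank_sub g hl hg hlq he W hW)
  · intro c hc
    rw [LinearMap.mem_ker, LinearMap.sub_apply, Module.End.one_apply, sub_eq_zero] at hc ⊢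
    rw [← Module.End.mul_apply, (hgu.pow_left (l ^ j)).eq, Module.End.mul_apply, hc]
  · intro h
    apply hg1
    rw [← sub_eq_zero]
    exact LinearMap.ker_eq_top.mp h

end Cfsg.Agent.H363.CommUnip
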