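import Mathlib
import Cfsg.Agent.H363.CommUnip
import Cfsg.Agent.H363.CentField
import Cfsg.Agent.LieExceptional.CyclicSylow

/-!
# Element orders in `PSL_n(q)`
-/

set_option autoImplicit false

namespace Cfsg.Agent.H363.PslSpec

open Matrix Module

universe u

variable {F : Type u} [Field F] {n : ℕ}

/-- the action of `SL_n` on column vectors -/
noncomputable def act : Matrix.SpecialLinearGroup (Fin n) F →* Module.End F (Fin n → F) where
  toFun g := toLinAlgEquiv' (g : Matrix (Fin n) (Fin n) F)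
  map_one' := by rw [Matrix.SpecialLinearGroup.coe_one, map_one]
  map_mul' a b := by rw [Matrix.SpecialLinearGroup.coe_mul, map_mul]

theorem act_injective : Function.Injective (act (F := F) (n := n)) := by
  intro a b h
  apply Subtype.ext
  exact (toLinAlgEquiv' : Matrix (Fin n) (Fin n) F ≃ₐ[F] _).injective h

theorem act_apply (g : Matrix.SpecialLinearGroup (Fin n) F) :
    act g = toLinAlgEquiv' (g : Matrix (Fin n) (Fin n) F) := rfl

theorem det_act (g : Matrix.SpecialLinearGroup (Fin n) F) : LinearMap.det (act g) = 1 := by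
  rw [act_apply]
  have : LinearMap.det (toLinAlgEquiv' (g : Matrix (Fin n) (Fin n) F)) =
      Matrix.det (g : Matrix (Fin n) (Fin n) F) := LinearMap.det_toLin' _
  rw [this, g.2]

variable [Finite F]

theorem center_pow (z : Matrix.SpecialLinearGroup (Fin n) F) (hz : z ∈ Subgroup.center _) :
    z ^ Nat.gcd n (Nat.card F - 1) = 1 := by
  have := Fintype.ofFinite F
  rcases Nat.eq_zero_or_pos n with rfl | hn
  · exact Subsingleton.elim _ _
  obtain ⟨c, hc, hcz⟩ := Matrix.SpecialLinearGroup.mem_center_iff.mp hz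
  rw [Fintype.card_fin] at hc
  have hc0 : c ≠ 0 := by
    rintro rfl
    rw [zero_pow (by omega)] at hc
    exact zero_ne_one hc
  have h1 : c ^ (Nat.card F - 1) = 1 := by
    rw [Nat.card_eq_fintype_card]
    exact FiniteField.pow_card_sub_one_eq_one c hc0
  have h2 : c ^ Nat.gcd n (Nat.card F - 1) = 1 := by
    rw [← orderOf_dvd_iff_pow_eq_one]
    exact Nat.dvd_gcd (orderOf_dvd_of_pow_eq_one hc) (orderOf_dvd_of_pow_eq_one h1)
  apply Subtype.ext
  rw [Matrix.SpecialLinearGroup.coe_pow, ← hcz, ← map_pow, h2, map_one]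
  rfl

/-- the projection -/
noncomputable abbrev pr (F : Type u) [Field F] (n : ℕ) :
    Matrix.SpecialLinearGroup (Fin n) F →* ProjectiveSpecialLinearGroup (Fin n) F :=
  QuotientGroup.mk' (Subgroup.center _)

theorem pr_surjective : Function.Surjective (pr F n) := QuotientGroup.mk'_surjective _

theorem pr_eq_one {g : Matrix.SpecialLinearGroup (Fin n) F} : pr F n g = 1 ↔ g ∈ Subgroup.center _ :=
  QuotientGroup.eq_one_iff g

/-- `g ^ (o c) = 1`, where `o` is the order of the image. -/
theorem lift_pow (g : Matrix.SpecialLinearGroup (Fin n) F) {k : ℕ} (h : (pr F n g) ^ k = 1) :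
    g ^ (k * Nat.gcd n (Nat.card F - 1)) = 1 := by
  rw [pow_mul]
  apply center_pow
  rw [← pr_eq_one, map_pow, h]

/-- Lifting elements of prime power order prime to the centre. -/
theorem lift_prime_pow {g : Matrix.SpecialLinearGroup (Fin n) F} {l j : ℕ} (hl : l.Prime)
    (hlc : ¬ l ∣ Nat.gcd n (Nat.card F - 1)) (h : l ^ (j + 1) ∣ orderOf (pr F n g)) :
    ∃ k : ℕ, (g ^ k) ^ l ^ (j + 1) = 1 ∧ (g ^ k) ^ l ^ j ≠ 1 := by
  set c := Nat.gcd n (Nat.card F - 1) with hc
  obtain ⟨m, hm⟩ := h
  have hfin : Finite (Matrix.SpecialLinearGroup (Fin n) F) := inferInstance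
  have ho : 0 < orderOf (pr F n g) := orderOf_pos _
  have hm0 : 0 < m := by
    rcases Nat.eq_zero_or_pos m with h | h
    · rw [h, mul_zero] at hm; omega
    · exact h
  have hc0 : 0 < c := by
    rw [hc]
    apply Nat.gcd_pos_of_pos_right
    have : 1 < Nat.card F := Finite.one_lt_card
    omega
  refine ⟨m * c, ?_, ?_⟩
  · rw [← pow_mul]
    have : m * c * l ^ (j + 1) = orderOf (pr F n g) * c := by rw [hm]; ring
    rw [this]
    exact lift_pow g (pow_orderOf_eq_one _)
  · intro h1
    have h2 : (pr F n g) ^ (m * c * l ^ j) = 1 := by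
      rw [← map_pow, pow_mul, h1, map_one]
    have h3 := orderOf_dvd_of_pow_eq_one h2
    rw [hm] at h3
    have h4 : l ^ j * m * l ∣ l ^ j * m * c := by
      have e1 : l ^ j * m * l = l ^ (j + 1) * m := by ring
      have e2 : l ^ j * m * c = m * c * l ^ j := by ring
      rw [e1, e2]; exact h3
    have h5 := Nat.dvd_of_mul_dvd_mul_left (by have := hl.pos; positivity) h4
    exact hlc h5

theorem unipotent_of_pow {p : ℕ} (hp : p.Prime) [CharP F p] {V : Type*} [AddCommGroup V]
    [Module F V] {u : Module.End F V} {a : ℕ} (h : u ^ p ^ a = 1) : (u - 1) ^ p ^ a = 0 := by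
  rcases subsingleton_or_nontrivial V with hV | hV
  · apply LinearMap.ext
    intro v
    exact Subsingleton.elim _ _
  have hc : CharP (Module.End F V) p := by
    have h1 : Function.Injective (algebraMap F (Module.End F V)) := (algebraMap F _).injective
    exact charP_of_injective_algebraMap h1 p
  have : Fact p.Prime := ⟨hp⟩
  rw [sub_pow_char_pow_of_commute a (p := p) (Commute.one_right u), h, one_pow,
    sub_self]

/-- `p` and elements of order `l ^ (j + 1)`, the order of `q` modulo `l ^ (j + 1)` being at least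
`n - 1`. -/
theorem not_dvd_orderOf {p : ℕ} (hp : p.Prime) [CharP F p] {l j e : ℕ} (hl : l.Prime)
    (hlq : ¬ l ∣ Nat.card F) (hlc : ¬ l ∣ Nat.gcd n (Nat.card F - 1))
    (he : ∀ d, l ^ (j + 1) ∣ Nat.card F ^ d - 1 → e ∣ d) (hn : 3 ≤ n) (hen : n ≤ e + 1)
    (x : ProjectiveSpecialLinearGroup (Fin n) F) : ¬ l ^ (j + 1) * p ∣ orderOf x := by
  intro h
  obtain ⟨g, rfl⟩ := pr_surjective x
  have hpq : p ∣ Nat.card F := by
    have := Fintype.ofFinite F
    obtain ⟨f, -, hf⟩ := FiniteField.card F p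
    rw [Nat.card_eq_fintype_card, hf]
    exact dvd_pow_self p f.ne_zero
  have hpc : ¬ p ∣ Nat.gcd n (Nat.card F - 1) := by
    intro h1
    have h2 : p ∣ Nat.card F - 1 := h1.trans (Nat.gcd_dvd_right _ _)
    have h3 : 1 < Nat.card F := Finite.one_lt_card
    have h4 := Nat.dvd_sub hpq h2
    rw [Nat.sub_sub_self h3.le] at h4
    exact hp.one_lt.ne' (Nat.dvd_one.mp h4)
  obtain ⟨k, hk1, hk2⟩ := lift_prime_pow hl hlc ((dvd_mul_right _ _).trans h)
  obtain ⟨k', hk1', hk2'⟩ := lift_prime_pow (j := 0) hp hpc (by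
    rw [zero_add, pow_one]; exact (dvd_mul_left _ _).trans h)
  rw [zero_add, pow_one] at hk1'
  rw [pow_zero, pow_one] at hk2'
  apply hk2'
  apply act_injective
  rw [map_one]
  refine CommUnip.eq_one_of_commute (g := act (g ^ k)) hl ?_ ?_ hlq he ?_ ?_ ?_ ?_
  · rw [← map_pow, hk1, map_one]
  · intro h1
    apply hk2
    apply act_injective
    rw [map_pow, h1, map_one]
  · rw [finrank_fin_fun]; exact hn
  · rw [finrank_fin_fun]; exact hen
  · refine ⟨p ^ 1, unipotent_of_pow hp ?_⟩
    rw [pow_one, ← map_pow, hk1', map_one]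
  · have : Commute (g ^ k) (g ^ k') := (Commute.refl g).pow_pow _ _
    exact this.map act

/-- `p`-elements have order at most `p ^ k`, `p ^ k ≥ n`. -/
theorem pow_eq_one_of_isPElement {p : ℕ} (hp : p.Prime) [CharP F p] {k : ℕ} (hk : n ≤ p ^ k)
    (x : ProjectiveSpecialLinearGroup (Fin n) F) {a : ℕ} (hx : orderOf x = p ^ a) :
    x ^ p ^ k = 1 := by
  obtain ⟨g, rfl⟩ := pr_surjective x
  set c := Nat.gcd n (Nat.card F - 1) with hc
  have hpq : p ∣ Nat.card F := by
    have := Fintype.ofFinite F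
    obtain ⟨f, -, hf⟩ := FiniteField.card F p
    rw [Nat.card_eq_fintype_card, hf]
    exact dvd_pow_self p f.ne_zero
  have hpc : ¬ p ∣ c := by
    intro h1
    have h2 : p ∣ Nat.card F - 1 := h1.trans (Nat.gcd_dvd_right _ _)
    have h3 : 1 < Nat.card F := Finite.one_lt_card
    have h4 := Nat.dvd_sub hpq h2
    rw [Nat.sub_sub_self h3.le] at h4
    exact hp.one_lt.ne' (Nat.dvd_one.mp h4)
  have h1 := lift_pow g (pow_orderOf_eq_one (pr F n g))
  rw [hx, mul_comm, pow_mul] at h1
  have h2 : act (g ^ c) ^ p ^ a = 1 := by rw [← map_pow, h1, map_one]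
  have h3 := unipotent_of_pow hp h2
  have h4 : (act (g ^ c) - 1) ^ n = 0 := by
    have h5 : IsNilpotent (act (g ^ c) - 1) := ⟨_, h3⟩
    have h6 := h5.charpoly_eq_X_pow_finrank
    rw [finrank_fin_fun] at h6
    have h7 := LinearMap.aeval_self_charpoly (act (g ^ c) - 1)
    rw [h6] at h7
    simpa using h7
  have h5 : (act (g ^ c) - 1) ^ p ^ k = 0 := by
    obtain ⟨t, ht⟩ := Nat.exists_eq_add_of_le hk
    rw [ht, pow_add, h4, zero_mul]
  have hfp : Fact p.Prime := ⟨hp⟩
  have h6 : act (g ^ c) ^ p ^ k = 1 := by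
    rcases Nat.eq_zero_or_pos n with rfl | hn
    · apply LinearMap.ext
      intro v
      exact Subsingleton.elim _ _
    have hnt : Nontrivial (Fin n → F) := by
      have : Nonempty (Fin n) := ⟨⟨0, hn⟩⟩
      infer_instance
    have hch : CharP (Module.End F (Fin n → F)) p :=
      charP_of_injective_algebraMap ((algebraMap F (Module.End F (Fin n → F))).injective) p
    rw [sub_pow_char_pow_of_commute k (p := p) (Commute.one_right _), one_pow, sub_eq_zero] at h5
    exact h5
  have h7 : g ^ (c * p ^ k) = 1 := by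
    apply act_injective
    rw [pow_mul, map_pow, h6, map_one]
  have h8 : (pr F n g) ^ (c * p ^ k) = 1 := by rw [← map_pow, h7, map_one]
  have h9 := orderOf_dvd_of_pow_eq_one h8
  rw [hx] at h9
  have h10 : p ^ a ∣ p ^ k := by
    refine Nat.Coprime.dvd_of_dvd_mul_left ?_ h9
    exact Nat.Coprime.pow_left _ ((Nat.Prime.coprime_iff_not_dvd hp).mpr hpc)
  rw [← orderOf_dvd_iff_pow_eq_one, hx]
  exact h10

/-- Elements of order divisible by a prime `r` for which the order of `q` modulo `r` is `n`. -/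
theorem orderOf_dvd_singer {r : ℕ} (hr : r.Prime) (hn : 2 ≤ n)
    (hrn : r ∣ Nat.card F ^ n - 1) (hrd : ∀ d, 0 < d → d < n → ¬ r ∣ Nat.card F ^ d - 1)
    (x : ProjectiveSpecialLinearGroup (Fin n) F) (hx : r ∣ orderOf x) :
    orderOf x ∣ (Nat.card F ^ n - 1) / (Nat.card F - 1) / Nat.gcd n (Nat.card F - 1) := by
  obtain ⟨g, rfl⟩ := pr_surjective x
  have hq1 : 1 < Nat.card F := Finite.one_lt_card
  set q := Nat.card F with hq
  set c := Nat.gcd n (q - 1) with hc
  have hrc : ¬ r ∣ c := by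
    intro h1
    have h2 : r ∣ q - 1 := h1.trans (Nat.gcd_dvd_right _ _)
    apply hrd 1 one_pos (by omega)
    rw [pow_one]; exact h2
  obtain ⟨k, hk1, hk2⟩ := lift_prime_pow (j := 0) hr hrc (by rw [zero_add, pow_one]; exact hx)
  rw [zero_add, pow_one] at hk1
  rw [pow_zero, pow_one] at hk2
  have hcm : Commute (act g) (act (g ^ k)) := by
    have : Commute g (g ^ k) := Commute.self_pow g k
    exact this.map act
  have h1 : act (g ^ k) ^ r = 1 := by rw [← map_pow, hk1, map_one]
  have h2 : act (g ^ k) ≠ 1 := by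
    intro h
    exact hk2 (act_injective (by rw [h, map_one]))
  have key := CentField.pow_eq_one hr h1 h2 (by rw [finrank_fin_fun]; exact hrn)
    (by rw [finrank_fin_fun]; exact hrd) hcm (det_act g)
  rw [finrank_fin_fun, ← hq] at key
  obtain ⟨hM, hsc⟩ := key
  set M := (q ^ n - 1) / (q - 1) with hMdef
  have hcM : c ∣ M := by
    have h3 : M = ∑ i ∈ Finset.range n, q ^ i := (Nat.geomSum_eq (by omega) n).symm
    have h4 : ∑ i ∈ Finset.range n, q ^ i ≡ n [MOD (q - 1)] := by
      have h5 : ∀ i ∈ Finset.range n, q ^ i ≡ 1 [MOD (q - 1)] := by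
        intro i _
        have : q ≡ 1 [MOD (q - 1)] := ((Nat.modEq_iff_dvd' hq1.le).mpr dvd_rfl).symm
        simpa using this.pow i
      have h6 : ∀ s : Finset ℕ, (∀ i ∈ s, q ^ i ≡ 1 [MOD (q - 1)]) →
          ∑ i ∈ s, q ^ i ≡ s.card [MOD (q - 1)] := by
        intro s
        induction s using Finset.induction_on with
        | empty => intro _; rfl
        | insert a s ha ih =>
          intro hs
          rw [Finset.sum_insert ha, Finset.card_insert_of_notMem ha, add_comm]
          exact (ih (fun i hi => hs i (Finset.mem_insert_of_mem hi))).add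
            (hs a (Finset.mem_insert_self _ _))
      simpa using h6 _ h5
    rw [h3]
    have h7 : c ∣ q - 1 := Nat.gcd_dvd_right _ _
    have h8 : ∑ i ∈ Finset.range n, q ^ i ≡ n [MOD c] := h4.of_dvd h7
    exact (h8.dvd_iff dvd_rfl).mpr (Nat.gcd_dvd_left _ _)
  have hc0 : 0 < c := Nat.gcd_pos_of_pos_right _ (by omega)
  have h3 : (act g ^ (M / c)) ^ (q - 1) = 1 := by
    rw [← pow_mul]
    obtain ⟨t, ht⟩ : c ∣ q - 1 := Nat.gcd_dvd_right _ _
    rw [ht, ← mul_assoc, Nat.div_mul_cancel hcM, pow_mul, hM, one_pow]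
  obtain ⟨a, ha⟩ := hsc (M / c) h3
  apply orderOf_dvd_of_pow_eq_one
  rw [← map_pow, pr_eq_one, Matrix.SpecialLinearGroup.mem_center_iff]
  have hmat : ((g ^ (M / c) : Matrix.SpecialLinearGroup (Fin n) F) : Matrix (Fin n) (Fin n) F) =
      scalar (Fin n) a := by
    apply (toLinAlgEquiv' : Matrix (Fin n) (Fin n) F ≃ₐ[F] _).injective
    rw [← act_apply, map_pow, ha]
    have : scalar (Fin n) a = algebraMap F (Matrix (Fin n) (Fin n) F) a := rfl
    rw [this, AlgEquiv.commutes]
  refine ⟨a, ?_, hmat.symm⟩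
  have h4 := (g ^ (M / c)).2
  rw [hmat] at h4
  simpa [Fintype.card_fin] using h4

/-- An element of `GL_n(q)` whose determinant is one gives an element of `PSL_n(q)`. -/
theorem exists_of_GL {M : ℕ} (hM : 0 < M) (y : GL (Fin n) F) (hdet : y.det = 1)
    (ho : orderOf y = M) :
    ∃ x : ProjectiveSpecialLinearGroup (Fin n) F, M ∣ orderOf x * Nat.gcd n (Nat.card F - 1) := by
  have hd : (y : Matrix (Fin n) (Fin n) F).det = 1 := by
    have := congrArg Units.val hdet
    simpa using this
  let g : Matrix.SpecialLinearGroup (Fin n) F := ⟨y, hd⟩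
  refine ⟨pr F n g, ?_⟩
  have h1 := lift_pow g (pow_orderOf_eq_one (pr F n g))
  rw [← ho]
  apply orderOf_dvd_of_pow_eq_one
  apply Units.ext
  have h2 := congrArg Subtype.val h1
  rw [Units.val_pow_eq_pow_val]
  exact (Matrix.SpecialLinearGroup.coe_pow g _).symm.trans h2

/-- A Singer cycle. -/
theorem exists_singer (hn : 0 < n) :
    ∃ x : ProjectiveSpecialLinearGroup (Fin n) F,
      orderOf x = (Nat.card F ^ n - 1) / (Nat.card F - 1) / Nat.gcd n (Nat.card F - 1) := by
  have hq1 : 1 < Nat.card F := Finite.one_lt_card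
  set q := Nat.card F with hq
  set c := Nat.gcd n (q - 1) with hc
  have : NeZero n := ⟨by omega⟩
  obtain ⟨K, _, _, hK, f, hf⟩ := Cfsg.Agent.LieExceptional.CyclicSylow.exists_singer F n
  obtain ⟨ζ, hζ⟩ := IsCyclic.exists_generator (α := Kˣ)
  have hord : orderOf ζ = q ^ n - 1 := by
    rw [orderOf_eq_card_of_forall_mem_zpowers hζ, Nat.card_units, hK]
  have hqn : 1 < q ^ n := Nat.one_lt_pow (by omega) hq1
  have hdvd : q - 1 ∣ q ^ n - 1 := by
    have := Nat.sub_dvd_pow_sub_pow q 1 n
    rwa [one_pow] at this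
  set M := (q ^ n - 1) / (q - 1) with hM
  have hMpos : 0 < M := Nat.div_pos (Nat.le_of_dvd (by omega) hdvd) (by omega)
  have hMmul : (q - 1) * M = q ^ n - 1 := Nat.mul_div_cancel' hdvd
  have h1 : orderOf (f ζ ^ (q - 1)) = M := by
    rw [orderOf_pow' _ (by omega), orderOf_injective f hf, hord, Nat.gcd_eq_right hdvd]
  have h2 : (f ζ ^ (q - 1)).det = 1 := by
    rw [map_pow]
    have hcu : Nat.card Fˣ = q - 1 := by rw [Nat.card_units]
    rw [← hcu]
    exact pow_card_eq_one'
  obtain ⟨x, hx⟩ := exists_of_GL hMpos _ h2 h1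
  rw [← hq, ← hc] at hx
  have hc0 : 0 < c := Nat.gcd_pos_of_pos_right _ (by omega)
  have hfin : Finite (ProjectiveSpecialLinearGroup (Fin n) F) := inferInstance
  have h3 : M / c ∣ orderOf x := by
    by_cases hcM : c ∣ M
    · obtain ⟨t, ht⟩ := hcM
      rw [ht, Nat.mul_div_cancel_left _ hc0]
      rw [ht, mul_comm] at hx
      exact Nat.dvd_of_mul_dvd_mul_right hc0 hx
    · exfalso
      apply hcM
      have h3 : M = ∑ i ∈ Finset.range n, q ^ i := (Nat.geomSum_eq (by omega) n).symm
      have h6 : ∀ s : Finset ℕ, ∑ i ∈ s, q ^ i ≡ s.card [MOD (q - 1)] := by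
        intro s
        induction s using Finset.induction_on with
        | empty => rfl
        | insert a s ha ih =>
          rw [Finset.sum_insert ha, Finset.card_insert_of_notMem ha, add_comm]
          refine ih.add ?_
          have : q ≡ 1 [MOD (q - 1)] := ((Nat.modEq_iff_dvd' hq1.le).mpr dvd_rfl).symm
          simpa using this.pow a
      have h7 : c ∣ q - 1 := Nat.gcd_dvd_right _ _
      have h8 : ∑ i ∈ Finset.range n, q ^ i ≡ n [MOD c] := by
        have := (h6 (Finset.range n)).of_dvd h7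
        rwa [Finset.card_range] at this
      rw [h3]
      exact (h8.dvd_iff dvd_rfl).mpr (Nat.gcd_dvd_left _ _)
  have hcM' : 0 < M / c := by
    rw [Nat.pos_iff_ne_zero]
    intro h0
    rw [h0, zero_dvd_iff] at h3
    exact (orderOf_pos x).ne' h3
  obtain ⟨t, ht⟩ := h3
  have ht0 : t ≠ 0 := by
    rintro rfl
    rw [mul_zero] at ht
    exact (orderOf_pos x).ne' ht
  refine ⟨x ^ t, ?_⟩
  rw [orderOf_pow' _ ht0, ht, Nat.gcd_eq_right (Dvd.intro_left _ rfl)]
  exact Nat.mul_div_cancel _ (Nat.pos_of_ne_zero ht0)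

end Cfsg.Agent.H363.PslSpec
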