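import Mathlib
import Cfsg.Agent.H363.PslSpec

/-!
# The torus of order `q ^ (n - 1) - 1` of `SL_n(q)`
-/

set_option autoImplicit false

namespace Cfsg.Agent.H363.PslTorus

open Matrix Module Cfsg.Agent.H363.PslSpec Cfsg.Agent.H363.Frat

universe u v

section field

variable {F : Type u} {V : Type v} [Field F] [Finite F] [AddCommGroup V] [Module F V]
  [FiniteDimensional F V]

/-- Invertible elements of the centralizer of an irreducible element. -/
theorem pow_sub_one_eq_one {x : Module.End F V} {r : ℕ} (hr : r.Prime) (hx : x ^ r = 1) (hx1 : x ≠ 1)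
    (hrn : r ∣ Nat.card F ^ finrank F V - 1)
    (hrd : ∀ d, 0 < d → d < finrank F V → ¬ r ∣ Nat.card F ^ d - 1)
    {g : Module.End F V} (hg : Commute g x) (hinj : Function.Injective g) :
    g ^ (Nat.card F ^ finrank F V - 1) = 1 := by
  have hfinV : Finite V := Module.finite_of_finite F
  obtain ⟨K, _, _, _, f, hf, hK⟩ := CentField.exists_field hr hx hx1 hrn hrd
  obtain ⟨a, rfl⟩ := (hK g).mp hg
  letI : Module K V := Module.compHom V f.toRingHom
  have hsm : ∀ (k : K) (v : V), k • v = f k v := fun _ _ => rfl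
  haveI : IsScalarTower F K V := ⟨fun c k v => by
    rw [hsm, hsm, map_smul, LinearMap.smul_apply]⟩
  have hnt : Nontrivial V := by
    rw [← not_subsingleton_iff_nontrivial]
    intro h
    exact hx1 (LinearMap.ext fun v => Subsingleton.elim _ _)
  have : FiniteDimensional F K := Module.Finite.of_finite
  have : FiniteDimensional K V := Module.Finite.of_finite
  have hmul : finrank F K * finrank K V = finrank F V := Module.finrank_mul_finrank F K V
  have hcardK : Nat.card K = Nat.card F ^ finrank F K := Module.natCard_eq_pow_finrank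
  have ha0 : a ≠ 0 := by
    rintro rfl
    obtain ⟨v, hv⟩ := exists_ne (0 : V)
    apply hv
    apply hinj
    simp
  have h1 : a ^ (Nat.card K - 1) = 1 := by
    letI : Fintype K := Fintype.ofFinite K
    rw [Nat.card_eq_fintype_card]
    exact FiniteField.pow_card_sub_one_eq_one a ha0
  have h2 : Nat.card K - 1 ∣ Nat.card F ^ finrank F V - 1 := by
    rw [hcardK, ← hmul, pow_mul]
    have := Nat.sub_dvd_pow_sub_pow (Nat.card F ^ finrank F K) 1 (finrank K V)
    rwa [one_pow] at this
  obtain ⟨t, ht⟩ := h2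
  rw [ht, pow_mul, ← map_pow, h1, map_one, one_pow]

/-- An invertible endomorphism commuting with an element of prime order `s`, where the order of `q`
modulo `s` is `n - 1`. -/
theorem pow_eq_one_of_commute {h g : Module.End F V} {s : ℕ} (hs : s.Prime) (hh : h ^ s = 1)
    (hh1 : h ≠ 1) (hn : 3 ≤ finrank F V) (hsn : s ∣ Nat.card F ^ (finrank F V - 1) - 1)
    (hsd : ∀ d, 0 < d → d < finrank F V - 1 → ¬ s ∣ Nat.card F ^ d - 1) (hsq : ¬ s ∣ Nat.card F)
    (hgh : Commute g h) (hinj : Function.Injective g) :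
    g ^ (Nat.card F ^ (finrank F V - 1) - 1) = 1 := by
  have hfinV : Finite V := Module.finite_of_finite F
  set n := finrank F V with hnd
  set q := Nat.card F with hq
  have hq1 : 1 < q := Finite.one_lt_card
  -- `n - 1 ∣ d`
  have he : ∀ d, s ∣ q ^ d - 1 → n - 1 ∣ d := by
    intro d hd
    by_contra hnd'
    set e := d % (n - 1) with he
    have he0 : 0 < e := Nat.pos_of_ne_zero (fun h0 => hnd' (Nat.dvd_of_mod_eq_zero h0))
    have hen : e < n - 1 := Nat.mod_lt _ (by omega)
    apply hsd e he0 hen
    -- `q ^ d ≡ q ^ e`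
    have h1 : q ^ (n - 1) ≡ 1 [MOD s] := ((Nat.modEq_iff_dvd' (Nat.one_le_pow _ _ (by omega))).mpr hsn).symm
    have h2 : q ^ d ≡ q ^ e [MOD s] := by
      have h3 : q ^ d = (q ^ (n - 1)) ^ (d / (n - 1)) * q ^ e := by
        rw [← pow_mul, ← pow_add, Nat.div_add_mod]
      rw [h3]
      have := (h1.pow (d / (n - 1))).mul_right (q ^ e)
      rwa [one_pow, one_mul] at this
    have h3 : q ^ d ≡ 1 [MOD s] := ((Nat.modEq_iff_dvd' (Nat.one_le_pow _ _ (by omega))).mpr hd).symm
    exact (Nat.modEq_iff_dvd' (Nat.one_le_pow _ _ (by omega))).mp (h2.symm.trans h3).symm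
  set C := LinearMap.ker (h - 1) with hC
  have hmemC : ∀ v : V, v ∈ C ↔ h v = v := by
    intro v
    rw [hC, LinearMap.mem_ker, LinearMap.sub_apply, Module.End.one_apply, sub_eq_zero]
  have h1 := CommUnip.dvd_finrank_sub (j := 0) (e := n - 1) h hs (by rw [zero_add, pow_one]; exact hh) hsq
    (by rw [zero_add, pow_one]; exact he) ⊤ (fun _ _ => Submodule.mem_top)
  rw [top_inf_eq, finrank_top, ← hnd, pow_zero, pow_one] at h1
  have hCtop : C ≠ ⊤ := by
    intro h0
    apply hh1
    rw [← sub_eq_zero]
    exact LinearMap.ker_eq_top.mp h0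
  have hCn : finrank F C < n := Submodule.finrank_lt hCtop
  have hC1 : finrank F C = 1 := by
    obtain ⟨c, hc⟩ := h1
    have hc' : n - finrank F C = (n - 1) * c := hc
    have hc2 : c < 2 := by
      by_contra hcon
      have : (n - 1) * 2 ≤ (n - 1) * c := Nat.mul_le_mul_left _ (by omega)
      omega
    have hc0 : c ≠ 0 := by
      rintro rfl
      omega
    have : c = 1 := by omega
    rw [this, mul_one] at hc'
    omega
  set R := LinearMap.range (h - 1) with hR
  have hRn : finrank F R = n - 1 := by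
    have := LinearMap.finrank_range_add_finrank_ker (h - 1)
    rw [← hR, ← hC, hC1] at this
    omega
  have hs0 : (s : F) ≠ 0 := by
    intro h0
    obtain ⟨p, hchar⟩ := CharP.exists F
    have hps : p ∣ s := (CharP.cast_eq_zero_iff F p s).mp h0
    have hp : p.Prime := by
      rcases CharP.char_is_prime_or_zero F p with hp | hp
      · exact hp
      · exfalso
        rw [hp] at hps
        exact hs.ne_zero (Nat.eq_zero_of_zero_dvd hps)
    have : p = s := (Nat.prime_dvd_prime_iff_eq hp hs).mp hps
    subst this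
    letI : Fintype F := Fintype.ofFinite F
    obtain ⟨f, -, hf⟩ := FiniteField.card F p
    apply hsq
    rw [hq, Nat.card_eq_fintype_card, hf]
    exact dvd_pow_self p f.ne_zero
  have hdisj : Disjoint C R := by
    rw [Submodule.disjoint_def]
    rintro v hvC ⟨w, hw⟩
    rw [hmemC] at hvC
    have hpow : ∀ i : ℕ, (h ^ i) v = v := by
      intro i
      induction i with
      | zero => rfl
      | succ i ih => rw [pow_succ, Module.End.mul_apply, hvC, ih]
    have h2 : (∑ i ∈ Finset.range s, h ^ i) * (h - 1) = 0 := by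
      rw [geom_sum_mul, hh, sub_self]
    have h3 : (∑ i ∈ Finset.range s, h ^ i) v = 0 := by
      rw [← hw, ← Module.End.mul_apply, h2, LinearMap.zero_apply]
    rw [LinearMap.sum_apply, Finset.sum_congr rfl (fun i _ => hpow i), Finset.sum_const,
      Finset.card_range, ← Nat.cast_smul_eq_nsmul F] at h3
    exact (smul_eq_zero.mp h3).resolve_left hs0
  have hcompl : IsCompl C R := (Submodule.isCompl_iff_disjoint C R (by rw [hC1, hRn]; omega)).mpr hdisj
  -- invariance
  have hgC : ∀ v ∈ C, g v ∈ C := by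
    intro v hv
    rw [hmemC] at hv ⊢
    rw [← Module.End.mul_apply, ← hgh.eq, Module.End.mul_apply, hv]
  have hgR : ∀ v ∈ R, g v ∈ R := by
    rintro _ ⟨w, rfl⟩
    refine ⟨g w, ?_⟩
    have : Commute g (h - 1) := hgh.sub_right (Commute.one_right g)
    rw [← Module.End.mul_apply, ← Module.End.mul_apply, this.eq]
  have hhR : ∀ v ∈ R, h v ∈ R := by
    rintro _ ⟨w, rfl⟩
    refine ⟨h w, ?_⟩
    have : Commute h (h - 1) := (Commute.refl h).sub_right (Commute.one_right h)
    rw [← Module.End.mul_apply, ← Module.End.mul_apply, this.eq]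
  have hpowC : ∀ (k : ℕ) (v : V), v ∈ C → (g ^ k) v ∈ C := by
    intro k
    induction k with
    | zero => intro v hv; exact hv
    | succ k ih => intro v hv; rw [pow_succ]; exact ih _ (hgC v hv)
  -- on `C`
  have hC' : ∀ v ∈ C, (g ^ (q ^ (n - 1) - 1)) v = v := by
    intro v hv
    by_cases hv0 : v = 0
    · rw [hv0, map_zero]
    obtain ⟨a, ha⟩ := (finrank_eq_one_iff_of_nonzero' (⟨v, hv⟩ : C) (fun h0 => hv0 (congrArg Subtype.val h0))).mp
      hC1 ⟨g v, hgC v hv⟩
    have ha' : a • v = g v := congrArg Subtype.val ha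
    have hpow : ∀ k : ℕ, (g ^ k) v = a ^ k • v := by
      intro k
      induction k with
      | zero => simp
      | succ k ih => rw [pow_succ, Module.End.mul_apply, ← ha', map_smul, ih, smul_smul, ← pow_succ']
    have ha0 : a ≠ 0 := by
      rintro rfl
      rw [zero_smul] at ha'
      apply hv0
      apply hinj
      rw [← ha', map_zero]
    have h3 : a ^ (q - 1) = 1 := by
      letI : Fintype F := Fintype.ofFinite F
      rw [hq, Nat.card_eq_fintype_card]
      exact FiniteField.pow_card_sub_one_eq_one a ha0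
    have h4 : q - 1 ∣ q ^ (n - 1) - 1 := by
      have := Nat.sub_dvd_pow_sub_pow q 1 (n - 1)
      rwa [one_pow] at this
    obtain ⟨t, ht⟩ := h4
    rw [hpow, ht, pow_mul, h3, one_pow, one_smul]
  -- on `R`
  have hR' : ∀ v ∈ R, (g ^ (q ^ (n - 1) - 1)) v = v := by
    have hres : ∀ (k : ℕ) (a : Module.End F V) (ha : ∀ v ∈ R, a v ∈ R) (w : R),
        (((a.restrict ha) ^ k) w : V) = (a ^ k) (w : V) := by
      intro k a ha
      induction k with
      | zero => intro w; rfl
      | succ k ih =>
        intro w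
        rw [pow_succ, pow_succ, Module.End.mul_apply, Module.End.mul_apply, ih]
        rfl
    have key := pow_sub_one_eq_one (F := F) (V := R) (x := h.restrict hhR) (g := g.restrict hgR) (r := s) hs
      (by
        ext w
        rw [hres, hh]; rfl)
      (by
        intro h0
        have h2 : R ≤ C := by
          intro v hv
          rw [hmemC]
          have := congrArg (fun a : Module.End F R => ((a ⟨v, hv⟩ : R) : V)) h0
          exact this
        have h3 : R = ⊥ := by
          rw [eq_bot_iff]
          intro v hv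
          rw [Submodule.mem_bot]
          exact (Submodule.disjoint_def.mp hdisj) v (h2 hv) hv
        rw [h3, finrank_bot] at hRn
        omega)
      (by rw [hRn]; exact hsn) (by rw [hRn]; exact hsd)
      (by
        apply LinearMap.ext
        intro w
        apply Subtype.ext
        show g (h (w : V)) = h (g (w : V))
        rw [← Module.End.mul_apply, ← Module.End.mul_apply, hgh.eq])
      (by
        intro a b hab
        apply Subtype.ext
        apply hinj
        exact congrArg Subtype.val hab)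
    rw [hRn] at key
    intro v hv
    have h2 := hres (q ^ (n - 1) - 1) g hgR ⟨v, hv⟩
    rw [key] at h2
    exact h2.symm
  apply LinearMap.ext
  intro v
  have hv : v ∈ C ⊔ R := by rw [hcompl.sup_eq_top]; exact Submodule.mem_top
  obtain ⟨c, hc, w, hw, rfl⟩ := Submodule.mem_sup.mp hv
  rw [map_add, hC' c hc, hR' w hw]
  rfl

end field

variable {F : Type u} [Field F] [Finite F] {n : ℕ}

omit [Finite F] in
theorem act_injective_apply (g : Matrix.SpecialLinearGroup (Fin n) F) :
    Function.Injective (act g) := by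
  intro a b hab
  have h1 : act (g⁻¹) * act g = 1 := by rw [← map_mul, inv_mul_cancel, map_one]
  have h2 : ∀ v, (act (g⁻¹)) ((act g) v) = v := fun v => by
    rw [← Module.End.mul_apply, h1]; rfl
  rw [← h2 a, hab, h2 b]

/-- **Elements of order divisible by a prime `s` for which the order of `q` is `n - 1`.** -/
theorem orderOf_dvd_torus {s : ℕ} (hs : s.Prime) (hn : 3 ≤ n)
    (hsn : s ∣ Nat.card F ^ (n - 1) - 1) (hsd : ∀ d, 0 < d → d < n - 1 → ¬ s ∣ Nat.card F ^ d - 1)
    (hsq : ¬ s ∣ Nat.card F)
    (x : ProjectiveSpecialLinearGroup (Fin n) F) (hx : s ∣ orderOf x) :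
    orderOf x ∣ Nat.card F ^ (n - 1) - 1 := by
  obtain ⟨g, rfl⟩ := pr_surjective x
  have hsc : ¬ s ∣ Nat.gcd n (Nat.card F - 1) := by
    intro h1
    have h2 : s ∣ Nat.card F - 1 := h1.trans (Nat.gcd_dvd_right _ _)
    apply hsd 1 one_pos (by omega)
    rw [pow_one]; exact h2
  obtain ⟨k, hk1, hk2⟩ := lift_prime_pow (j := 0) hs hsc (by rw [zero_add, pow_one]; exact hx)
  rw [zero_add, pow_one] at hk1
  rw [pow_zero, pow_one] at hk2
  have hcm : Commute (act g) (act (g ^ k)) := by
    have : Commute g (g ^ k) := Commute.self_pow g k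
    exact this.map act
  have h1 : act (g ^ k) ^ s = 1 := by rw [← map_pow, hk1, map_one]
  have h2 : act (g ^ k) ≠ 1 := by
    intro h
    exact hk2 (act_injective (by rw [h, map_one]))
  have key := pow_eq_one_of_commute hs h1 h2 (by rw [finrank_fin_fun]; exact hn)
    (by rw [finrank_fin_fun]; exact hsn) (by rw [finrank_fin_fun]; exact hsd) hsq hcm (act_injective_apply g)
  rw [finrank_fin_fun, ← map_pow] at key
  have h3 : g ^ (Nat.card F ^ (n - 1) - 1) = 1 := act_injective (by rw [key, map_one])
  apply orderOf_dvd_of_pow_eq_one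
  rw [← map_pow, h3, map_one]

/-! ### The element -/

/-- the block matrix -/
noncomputable def blk {m : ℕ} (A : Matrix (Fin m) (Fin m) F) :
    Matrix (Fin (m + 1)) (Fin (m + 1)) F :=
  Matrix.reindex finSumFinEquiv finSumFinEquiv
    (Matrix.fromBlocks A 0 0 (Matrix.scalar (Fin 1) (A.det)⁻¹))

omit [Finite F] in
theorem blk_one {m : ℕ} : blk (1 : Matrix (Fin m) (Fin m) F) = 1 := by
  simp [blk]

omit [Finite F] in
theorem blk_mul {m : ℕ} (A B : Matrix (Fin m) (Fin m) F) :
    blk (A * B) = blk A * blk B := by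
  have : Matrix.scalar (Fin 1) ((A * B).det)⁻¹ =
      Matrix.scalar (Fin 1) (A.det)⁻¹ * Matrix.scalar (Fin 1) (B.det)⁻¹ := by
    rw [← map_mul]
    congr 1
    rw [Matrix.det_mul, mul_inv]
  rw [blk, blk, blk, this, Matrix.reindex_apply, Matrix.reindex_apply, Matrix.reindex_apply,
    Matrix.submatrix_mul_equiv, Matrix.fromBlocks_multiply]
  simp

omit [Finite F] in
theorem blk_det {m : ℕ} {A : Matrix (Fin m) (Fin m) F} (hA : A.det ≠ 0) :
    (blk A).det = 1 := by
  rw [blk, Matrix.det_reindex_self, Matrix.det_fromBlocks_zero₂₁]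
  simp [mul_inv_cancel₀ hA]

omit [Finite F] in
theorem blk_injective {m : ℕ} : Function.Injective (blk (F := F) (m := m)) := by
  intro A B h
  have h1 := (Matrix.reindex finSumFinEquiv finSumFinEquiv).injective h
  exact (Matrix.fromBlocks_inj.mp h1).1

/-- `GL_m` in `SL_{m+1}`. -/
noncomputable def emb (F : Type u) [Field F] (m : ℕ) :
    GL (Fin m) F →* Matrix.SpecialLinearGroup (Fin (m + 1)) F where
  toFun A := ⟨blk (A : Matrix (Fin m) (Fin m) F), blk_det (A.isUnit.map Matrix.detMonoidHom).ne_zero⟩
  map_one' := Subtype.ext blk_one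
  map_mul' A B := Subtype.ext (blk_mul _ _)

theorem emb_injective (F : Type u) [Field F] (m : ℕ) : Function.Injective (emb F m) := by
  intro A B h
  apply Units.ext
  exact blk_injective (congrArg Subtype.val h)

/-- An element of order divisible by `(q ^ (n - 1) - 1) / gcd (n, q - 1)`. -/
theorem exists_big (hn : 2 ≤ n) :
    ∃ x : ProjectiveSpecialLinearGroup (Fin n) F,
      Nat.card F ^ (n - 1) - 1 ∣ orderOf x * Nat.gcd n (Nat.card F - 1) := by
  obtain ⟨m, rfl⟩ : ∃ m, n = m + 1 := ⟨n - 1, by omega⟩
  rw [Nat.add_sub_cancel]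
  have : NeZero m := ⟨by omega⟩
  obtain ⟨K, _, _, hK, f, hf⟩ := Cfsg.Agent.LieExceptional.CyclicSylow.exists_singer F m
  obtain ⟨ζ, hζ⟩ := IsCyclic.exists_generator (α := Kˣ)
  have hord : orderOf ζ = Nat.card F ^ m - 1 := by
    rw [orderOf_eq_card_of_forall_mem_zpowers hζ, Nat.card_units, hK]
  have h1 : orderOf (emb F m (f ζ)) = Nat.card F ^ m - 1 := by
    rw [orderOf_injective (emb F m) (emb_injective F m), orderOf_injective f hf, hord]
  refine ⟨pr F (m + 1) (emb F m (f ζ)), ?_⟩
  have h2 := lift_pow (emb F m (f ζ)) (pow_orderOf_eq_one (pr F (m + 1) (emb F m (f ζ))))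
  rw [← h1]
  exact orderOf_dvd_of_pow_eq_one h2

end Cfsg.Agent.H363.PslTorus
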