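import Mathlib
import Cfsg.Agent.ClassicalGeometry.PSL2ElemOrder
import Cfsg.Agent.TIAbelian.IsolatedPSL
import Cfsg.Agent.S0812
import Cfsg.Agent.SmallSimple.PSLTwoPart

/-!
# The spectrum of `PSL₂(q)`
-/

set_option autoImplicit false

namespace Cfsg.Agent.H363.PSL2Spec

open scoped MatrixGroups
open Cfsg.Agent.ClassicalGeometry.PSLTorus Matrix

/-- The order of an element of `PSL₂(q)` divides `(q - 1) / d`, `(q + 1) / d` or `p`. -/
theorem orderOf_cases {F : Type*} [Field F] [Fintype F] {q : ℕ} (hF : Fintype.card F = q) (p : ℕ)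
    [Fact p.Prime] [CharP F p] (g : Matrix.ProjectiveSpecialLinearGroup (Fin 2) F) :
    orderOf g ∣ (q + 1) / Nat.gcd 2 (q - 1) ∨ orderOf g ∣ (q - 1) / Nat.gcd 2 (q - 1) ∨
      orderOf g ∣ p := by
  by_cases hg : p ∣ orderOf g
  · right; right
    have hp : p.Prime := Fact.out
    have hpq : p ∣ q := by
      obtain ⟨n, -, hn⟩ := FiniteField.card F p
      rw [← hF, hn]
      exact dvd_pow_self p n.ne_zero
    have hq1 : 1 < q := hF ▸ Fintype.one_lt_card
    obtain ⟨A, rfl⟩ := pr_surjective F g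
    rcases Cfsg.Agent.ClassicalGeometry.SL2Order.pow_cases hF p A with h | h | h
    · exfalso
      have h1 : orderOf (pr F A) ∣ q - 1 := by
        apply orderOf_dvd_of_pow_eq_one
        rw [← map_pow, h, map_one]
      have h2 : p ∣ q - (q - 1) := Nat.dvd_sub hpq (hg.trans h1)
      rw [Nat.sub_sub_self hq1.le] at h2
      exact hp.one_lt.ne' (Nat.dvd_one.mp h2)
    · exfalso
      have h1 : orderOf (pr F A) ∣ q + 1 := by
        apply orderOf_dvd_of_pow_eq_one
        rw [← map_pow, h, map_one]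
      have h2 : p ∣ (q + 1) - q := Nat.dvd_sub (hg.trans h1) hpq
      rw [Nat.add_sub_cancel_left] at h2
      exact hp.one_lt.ne' (Nat.dvd_one.mp h2)
    · apply orderOf_dvd_of_pow_eq_one
      by_cases h2 : (2 : F) = 0
      · have hp2 : p = 2 := by
          have h5 : ((2 : ℕ) : F) = 0 := by exact_mod_cast h2
          have h3 := (CharP.cast_eq_zero_iff F p 2).mp h5
          exact (Nat.prime_dvd_prime_iff_eq hp Nat.prime_two).mp h3
        subst hp2
        have h3 : A ^ 2 = 1 := Cfsg.Agent.TIAbelian.IsolatedPSL.sq_eq_one_of_pow_four A h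
        rw [← map_pow, h3, map_one]
      · rw [← map_pow, pr_eq_one_iff]
        apply Cfsg.Agent.ClassicalGeometry.PSL2ElemOrder.eq_one_or_of_sq h2
        rw [← pow_add, ← h]
        congr 1
        omega
  · rcases Cfsg.Agent.ClassicalGeometry.PSL2ElemOrder.orderOf_dvd hF p g hg with h | h
    · exact Or.inl h
    · exact Or.inr (Or.inl h)

/-- An element of order `(q + 1) / d`. -/
theorem exists_nonsplit {F : Type*} [Field F] [Fintype F] {q : ℕ} (hF : Fintype.card F = q) :
    ∃ g : Matrix.ProjectiveSpecialLinearGroup (Fin 2) F,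
      orderOf g = (q + 1) / Nat.gcd 2 (q - 1) := by
  subst hF
  obtain ⟨C, H, -, -, hC, hcard, -, -⟩ := exists_psl_torus F
  obtain ⟨c, hc⟩ := hC.exists_ofOrder_eq_natCard
  exact ⟨c, by rw [Subgroup.orderOf_coe, hc, hcard]⟩

/-- An element of order `(q - 1) / d`. -/
theorem exists_split {F : Type*} [Field F] [Fintype F] {q : ℕ} (hF : Fintype.card F = q) :
    ∃ g : Matrix.ProjectiveSpecialLinearGroup (Fin 2) F,
      orderOf g = (q - 1) / Nat.gcd 2 (q - 1) := by
  obtain ⟨t, ht⟩ := IsCyclic.exists_generator (α := Fˣ)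
  have hord : orderOf t = q - 1 := by
    rw [orderOf_eq_card_of_forall_mem_zpowers ht, Nat.card_units, Nat.card_eq_fintype_card, hF]
  exact ⟨_, by rw [Cfsg.Agent.S0812.orderOf_mk_dg, orderOf_pow, hord, Nat.gcd_comm]⟩

end Cfsg.Agent.H363.PSL2Spec
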