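import Mathlib

/-!
# `|PSL₂(q)|` is not the order of `PSL₃(a)` or `PSU₃(a)`, `a` odd
-/

set_option autoImplicit false

namespace Cfsg.Agent.H363.ArithThree

theorem coprime_pow {q p f x : ℕ} (hp : p.Prime) (hq : q = p ^ f) (hx : ¬ p ∣ x) :
    q.Coprime x := by
  rw [hq]
  exact Nat.Coprime.pow_left _ ((Nat.Prime.coprime_iff_not_dvd hp).mpr hx)

theorem psl_bound {q p f b : ℕ} (hp : p.Prime) (hp2 : p ≠ 2) (hq : q = p ^ f)
    (h : q ∣ (b * (b + 2)) * (b * (b ^ 2 + 3 * b + 3))) (hb : 2 ≤ b) :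
    q + 1 < (b + 1) ^ 3 := by
  have hp2' : ¬ p ∣ 2 := fun h => hp2 ((Nat.prime_dvd_prime_iff_eq hp Nat.prime_two).mp h)
  by_cases h1 : p ∣ b
  · have h2 : ¬ p ∣ b + 2 := fun h => hp2' ((Nat.dvd_add_right h1).mp h)
    have h3 : q ∣ 3 * b ^ 2 := by
      have e1 : (b * (b + 2)) * (b * (b ^ 2 + 3 * b + 3)) =
          (b + 2) * (b ^ 2 * (b ^ 2 + 3 * b + 3)) := by ring
      rw [e1] at h
      have h4 := (coprime_pow hp hq h2).dvd_of_dvd_mul_left h
      by_cases h5 : p = 3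
      · subst h5
        obtain ⟨c, rfl⟩ := h1
        have e2 : (3 * c) ^ 2 * ((3 * c) ^ 2 + 3 * (3 * c) + 3) =
            (3 * (c * c + c) + 1) * (3 * (3 * c) ^ 2) := by ring
        rw [e2] at h4
        refine (coprime_pow hp hq ?_).dvd_of_dvd_mul_left h4
        omega
      · have h6 : ¬ p ∣ b ^ 2 + 3 * b + 3 := by
          intro h7
          have h8 : p ∣ b ^ 2 + 3 * b := by
            have : b ^ 2 + 3 * b = b * (b + 3) := by ring
            rw [this]
            exact h1.mul_right _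
          exact h5 ((Nat.prime_dvd_prime_iff_eq hp Nat.prime_three).mp
            ((Nat.dvd_add_right h8).mp h7))
        exact ((coprime_pow hp hq h6).dvd_of_dvd_mul_right h4).mul_left 3
    have h4 := Nat.le_of_dvd (by positivity) h3
    nlinarith [pow_pos (show 0 < b by omega) 3]
  · have e1 : (b * (b + 2)) * (b * (b ^ 2 + 3 * b + 3)) =
        b * (b * ((b + 2) * (b ^ 2 + 3 * b + 3))) := by ring
    rw [e1] at h
    have h2 := (coprime_pow hp hq h1).dvd_of_dvd_mul_left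
      ((coprime_pow hp hq h1).dvd_of_dvd_mul_left h)
    by_cases h3 : p ∣ b + 2
    · have h4 : ¬ p ∣ b ^ 2 + 3 * b + 3 := by
        intro h5
        have e2 : b ^ 2 + 3 * b + 3 = (b + 2) * (b + 1) + 1 := by ring
        rw [e2] at h5
        exact hp.one_lt.ne' (Nat.dvd_one.mp ((Nat.dvd_add_right (h3.mul_right _)).mp h5))
      have h5 := Nat.le_of_dvd (by omega) ((coprime_pow hp hq h4).dvd_of_dvd_mul_right h2)
      nlinarith [pow_pos (show 0 < b by omega) 3]
    · have h5 := Nat.le_of_dvd (by positivity) ((coprime_pow hp hq h3).dvd_of_dvd_mul_left h2)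
      nlinarith [pow_pos (show 0 < b by omega) 3]

theorem psu_bound {q p f b : ℕ} (hp : p.Prime) (hp2 : p ≠ 2) (hq : q = p ^ f)
    (h : q ∣ (b * (b + 2)) * ((b + 2) * (b ^ 2 + b + 1))) (hb : 4 ≤ b) :
    q + 1 < (b + 1) ^ 3 := by
  have hp2' : ¬ p ∣ 2 := fun h => hp2 ((Nat.prime_dvd_prime_iff_eq hp Nat.prime_two).mp h)
  by_cases h1 : p ∣ b + 2
  · have h2 : ¬ p ∣ b := fun h => hp2' ((Nat.dvd_add_right h).mp h1)
    have h3 : q ∣ 3 * (b + 2) ^ 2 := by
      have e1 : (b * (b + 2)) * ((b + 2) * (b ^ 2 + b + 1)) =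
          b * ((b + 2) ^ 2 * (b ^ 2 + b + 1)) := by ring
      rw [e1] at h
      have h4 := (coprime_pow hp hq h2).dvd_of_dvd_mul_left h
      by_cases h5 : p = 3
      · subst h5
        obtain ⟨c, hc⟩ := h1
        obtain ⟨c', rfl⟩ : ∃ c', c = c' + 1 := ⟨c - 1, by omega⟩
        have hb' : b = 3 * c' + 1 := by omega
        have e2 : (b + 2) ^ 2 * (b ^ 2 + b + 1) =
            (3 * (c' * c' + c') + 1) * (3 * (b + 2) ^ 2) := by
          rw [hb']; ring
        rw [e2] at h4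
        refine (coprime_pow hp hq ?_).dvd_of_dvd_mul_left h4
        omega
      · have h6 : ¬ p ∣ b ^ 2 + b + 1 := by
          intro h7
          have h8 : p ∣ (b + 2) * (b + 2) + 3 := by
            have e3 : (b + 2) * (b + 2) + 3 = (b ^ 2 + b + 1) + 3 * (b + 2) := by ring
            rw [e3]
            exact dvd_add h7 (h1.mul_left 3)
          exact h5 ((Nat.prime_dvd_prime_iff_eq hp Nat.prime_three).mp
            ((Nat.dvd_add_right (h1.mul_left _)).mp h8))
        exact ((coprime_pow hp hq h6).dvd_of_dvd_mul_right h4).mul_left 3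
    have h4 := Nat.le_of_dvd (by positivity) h3
    nlinarith [mul_le_mul hb hb (by omega) (by omega : 0 ≤ b), Nat.mul_le_mul_right (b*b) hb]
  · have e1 : (b * (b + 2)) * ((b + 2) * (b ^ 2 + b + 1)) =
        (b + 2) * ((b + 2) * (b * (b ^ 2 + b + 1))) := by ring
    rw [e1] at h
    have h2 := (coprime_pow hp hq h1).dvd_of_dvd_mul_left
      ((coprime_pow hp hq h1).dvd_of_dvd_mul_left h)
    by_cases h3 : p ∣ b
    · have h4 : ¬ p ∣ b ^ 2 + b + 1 := by
        intro h5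
        have e2 : b ^ 2 + b + 1 = b * (b + 1) + 1 := by ring
        rw [e2] at h5
        exact hp.one_lt.ne' (Nat.dvd_one.mp ((Nat.dvd_add_right (h3.mul_right _)).mp h5))
      have h5 := Nat.le_of_dvd (by omega) ((coprime_pow hp hq h4).dvd_of_dvd_mul_right h2)
      nlinarith [pow_pos (show 0 < b by omega) 3]
    · have h5 := Nat.le_of_dvd (by positivity) ((coprime_pow hp hq h3).dvd_of_dvd_mul_left h2)
      nlinarith [pow_pos (show 0 < b by omega) 3]

/-- `a ^ 3 ∣ q ^ 2 - 1`, `a` an odd prime power: `a ^ 3 ≤ q + 1`. -/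
theorem cube_le {q a r e : ℕ} (hr : r.Prime) (hr2 : r ≠ 2) (ha : a = r ^ e) (hq : 2 ≤ q)
    (h : a ^ 3 ∣ q ^ 2 - 1) : a ^ 3 ≤ q + 1 := by
  have hr2' : ¬ r ∣ 2 := fun h => hr2 ((Nat.prime_dvd_prime_iff_eq hr Nat.prime_two).mp h)
  have e1 : q ^ 2 - 1 = (q - 1) * (q + 1) := by
    obtain ⟨j, rfl⟩ : ∃ j, q = j + 1 := ⟨q - 1, by omega⟩
    rw [Nat.add_sub_cancel]
    have : (j + 1) ^ 2 = j * (j + 1 + 1) + 1 := by ring
    omega
  rw [e1] at h
  have ha3 : a ^ 3 = r ^ (e * 3) := by rw [ha, ← pow_mul]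
  by_cases h1 : r ∣ q - 1
  · have h2 : ¬ r ∣ q + 1 := by
      intro h3
      have : q + 1 = (q - 1) + 2 := by omega
      rw [this] at h3
      exact hr2' ((Nat.dvd_add_right h1).mp h3)
    have h3 := Nat.le_of_dvd (by omega) ((coprime_pow hr ha3 h2).dvd_of_dvd_mul_right h)
    omega
  · exact Nat.le_of_dvd (by omega) ((coprime_pow hr ha3 h1).dvd_of_dvd_mul_left h)

/-- `PSL₃(a)` -/
theorem not_psl {q a p f r e : ℕ} (hp : p.Prime) (hp2 : p ≠ 2) (hr : r.Prime) (hr2 : r ≠ 2)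
    (hf : q = p ^ f) (he : a = r ^ e) (he0 : e ≠ 0) (hf0 : f ≠ 0)
    (heq : Nat.gcd 3 (a - 1) * (q * (q ^ 2 - 1)) = 2 * (a ^ 3 * ((a ^ 2 - 1) * (a ^ 3 - 1)))) :
    False := by
  have ha3 : 3 ≤ a := by
    rw [he]
    calc 3 ≤ r := by have := hr.two_le; omega
      _ = r ^ 1 := (pow_one r).symm
      _ ≤ r ^ e := Nat.pow_le_pow_right hr.pos (Nat.pos_of_ne_zero he0)
  have hq3 : 3 ≤ q := by
    rw [hf]
    calc 3 ≤ p := by have := hp.two_le; omega
      _ = p ^ 1 := (pow_one p).symm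
      _ ≤ p ^ f := Nat.pow_le_pow_right hp.pos (Nat.pos_of_ne_zero hf0)
  obtain ⟨b, rfl⟩ : ∃ b, a = b + 1 := ⟨a - 1, by omega⟩
  have hb : 2 ≤ b := by omega
  have e1 : (b + 1) ^ 2 - 1 = b * (b + 2) := by
    have : (b + 1) ^ 2 = b * (b + 2) + 1 := by ring
    omega
  have e2 : (b + 1) ^ 3 - 1 = b * (b ^ 2 + 3 * b + 3) := by
    have : (b + 1) ^ 3 = b * (b ^ 2 + 3 * b + 3) + 1 := by ring
    omega
  rw [Nat.add_sub_cancel] at heq
  set d := Nat.gcd 3 b with hd
  have hdb : d ∣ b := Nat.gcd_dvd_right _ _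
  have hd3 : d ∣ 3 := Nat.gcd_dvd_left _ _
  have hcopd : d.Coprime (b + 1) := by
    have h1 : (b + 1).Coprime b := by simp
    exact (h1.coprime_dvd_right hdb).symm
  have hp2' : ¬ p ∣ 2 := fun h => hp2 ((Nat.prime_dvd_prime_iff_eq hp Nat.prime_two).mp h)
  by_cases hrp : r = p
  · subst hrp
    have hra : r ∣ b + 1 := by rw [he]; exact dvd_pow_self r he0
    have hrq : r ∣ q := by rw [hf]; exact dvd_pow_self r hf0
    have hrb : ¬ r ∣ b := fun h => hr.one_lt.ne' (Nat.dvd_one.mp ((Nat.dvd_add_right h).mp hra))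
    have hrd : ¬ r ∣ d := fun h => hrb (h.trans hdb)
    have hrq2 : ¬ r ∣ q ^ 2 - 1 := by
      intro h
      have h1 : r ∣ q ^ 2 := hrq.trans (dvd_pow_self q two_ne_zero)
      have h2 := Nat.dvd_sub h1 h
      rw [Nat.sub_sub_self (Nat.one_le_pow _ _ (by omega))] at h2
      exact hr.one_lt.ne' (Nat.dvd_one.mp h2)
    have hra2 : ¬ r ∣ (b + 1) ^ 2 - 1 := by
      intro h
      have h1 : r ∣ (b + 1) ^ 2 := hra.trans (dvd_pow_self _ two_ne_zero)
      have h2 := Nat.dvd_sub h1 h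
      rw [Nat.sub_sub_self (Nat.one_le_pow _ _ (by omega))] at h2
      exact hr.one_lt.ne' (Nat.dvd_one.mp h2)
    have hra3 : ¬ r ∣ (b + 1) ^ 3 - 1 := by
      intro h
      have h1 : r ∣ (b + 1) ^ 3 := hra.trans (dvd_pow_self _ three_ne_zero)
      have h2 := Nat.dvd_sub h1 h
      rw [Nat.sub_sub_self (Nat.one_le_pow _ _ (by omega))] at h2
      exact hr.one_lt.ne' (Nat.dvd_one.mp h2)
    have ha3' : (b + 1) ^ 3 = r ^ (e * 3) := by rw [he, ← pow_mul]
    have hqa : q = (b + 1) ^ 3 := by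
      apply Nat.dvd_antisymm
      · have h1 : q ∣ (b + 1) ^ 3 * (2 * (((b + 1) ^ 2 - 1) * ((b + 1) ^ 3 - 1))) := by
          have h2 : (b + 1) ^ 3 * (2 * (((b + 1) ^ 2 - 1) * ((b + 1) ^ 3 - 1))) =
              q * (d * (q ^ 2 - 1)) := by
            calc _ = 2 * ((b + 1) ^ 3 * (((b + 1) ^ 2 - 1) * ((b + 1) ^ 3 - 1))) := by ring
              _ = d * (q * (q ^ 2 - 1)) := heq.symm
              _ = _ := by ring
          rw [h2]
          exact dvd_mul_right _ _
        refine (coprime_pow hr hf ?_).dvd_of_dvd_mul_right h1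
        intro h3
        rcases (hr.dvd_mul).mp h3 with h4 | h4
        · exact hp2' h4
        · rcases (hr.dvd_mul).mp h4 with h5 | h5
          · exact hra2 h5
          · exact hra3 h5
      · have h1 : (b + 1) ^ 3 ∣ q * (d * (q ^ 2 - 1)) := by
          have h2 : q * (d * (q ^ 2 - 1)) =
              (b + 1) ^ 3 * (2 * (((b + 1) ^ 2 - 1) * ((b + 1) ^ 3 - 1))) := by
            calc _ = d * (q * (q ^ 2 - 1)) := by ring
              _ = 2 * ((b + 1) ^ 3 * (((b + 1) ^ 2 - 1) * ((b + 1) ^ 3 - 1))) := heq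
              _ = _ := by ring
          rw [h2]
          exact dvd_mul_right _ _
        refine (coprime_pow hr ha3' ?_).dvd_of_dvd_mul_right h1
        intro h3
        rcases (hr.dvd_mul).mp h3 with h4 | h4
        · exact hrd h4
        · exact hrq2 h4
    rw [← hqa] at heq
    have h1 : d * (q ^ 2 - 1) = 2 * (((b + 1) ^ 2 - 1) * (q - 1)) := by
      apply Nat.eq_of_mul_eq_mul_left (show 0 < q by omega)
      calc q * (d * (q ^ 2 - 1)) = d * (q * (q ^ 2 - 1)) := by ring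
        _ = _ := heq
        _ = _ := by ring
    have h2 : q ^ 2 - 1 = (q + 1) * (q - 1) := by
      obtain ⟨j, rfl⟩ : ∃ j, q = j + 1 := ⟨q - 1, by omega⟩
      rw [Nat.add_sub_cancel]
      have : (j + 1) ^ 2 = (j + 1 + 1) * j + 1 := by ring
      omega
    rw [h2] at h1
    have h3 : d * (q + 1) = 2 * ((b + 1) ^ 2 - 1) := by
      apply Nat.eq_of_mul_eq_mul_right (show 0 < q - 1 by omega)
      calc d * (q + 1) * (q - 1) = d * ((q + 1) * (q - 1)) := by ring
        _ = _ := h1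
        _ = _ := by ring
    rw [e1, hqa] at h3
    have hd1 : 1 ≤ d := Nat.pos_of_ne_zero (fun h => by rw [h] at hd3; omega)
    have h4 : (b + 1) ^ 3 + 1 ≤ d * ((b + 1) ^ 3 + 1) := Nat.le_mul_of_pos_left _ hd1
    rw [h3] at h4
    nlinarith [pow_pos (show 0 < b by omega) 3]
  · have hcop : ((b + 1) ^ 3).Coprime q := by
      rw [he, hf, ← pow_mul]
      exact Nat.Coprime.pow _ _ ((Nat.coprime_primes hr hp).mpr hrp)
    have h1 : (b + 1) ^ 3 ∣ q ^ 2 - 1 := by
      have h2 : (b + 1) ^ 3 ∣ d * (q * (q ^ 2 - 1)) := by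
        rw [heq]
        exact (dvd_mul_right _ _).mul_left 2
      have h3 := (Nat.Coprime.pow_left 3 hcopd.symm).dvd_of_dvd_mul_left h2
      exact hcop.dvd_of_dvd_mul_left h3
    have h2 := cube_le hr hr2 he (by omega) h1
    have h3 : q ∣ (b * (b + 2)) * (b * (b ^ 2 + 3 * b + 3)) := by
      rw [← e1, ← e2]
      have h4 : q ∣ 2 * ((b + 1) ^ 3 * (((b + 1) ^ 2 - 1) * ((b + 1) ^ 3 - 1))) := by
        rw [← heq]
        exact (dvd_mul_right _ _).mul_left d
      have h5 := (coprime_pow hp hf hp2').dvd_of_dvd_mul_left h4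
      exact hcop.symm.dvd_of_dvd_mul_left h5
    have h4 := psl_bound hp hp2 hf h3 hb
    omega

/-- `PSU₃(a)` -/
theorem not_psu {q a p f r e : ℕ} (hp : p.Prime) (hp2 : p ≠ 2) (hr : r.Prime) (hr2 : r ≠ 2)
    (hf : q = p ^ f) (he : a = r ^ e) (he0 : e ≠ 0) (hf0 : f ≠ 0)
    (heq : Nat.gcd 3 (a + 1) * (q * (q ^ 2 - 1)) = 2 * (a ^ 3 * ((a ^ 2 - 1) * (a ^ 3 + 1)))) :
    False := by
  have ha3 : 3 ≤ a := by
    rw [he]
    calc 3 ≤ r := by have := hr.two_le; omega
      _ = r ^ 1 := (pow_one r).symm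
      _ ≤ r ^ e := Nat.pow_le_pow_right hr.pos (Nat.pos_of_ne_zero he0)
  have hq3 : 3 ≤ q := by
    rw [hf]
    calc 3 ≤ p := by have := hp.two_le; omega
      _ = p ^ 1 := (pow_one p).symm
      _ ≤ p ^ f := Nat.pow_le_pow_right hp.pos (Nat.pos_of_ne_zero hf0)
  by_cases hathree : a = 3
  · subst hathree
    norm_num at heq
    have hq : q < 24 := by
      by_contra h
      push Not at h
      have h1 : 24 ^ 2 ≤ q ^ 2 := Nat.pow_le_pow_left h 2
      have h2 : 24 * (24 ^ 2 - 1) ≤ q * (q ^ 2 - 1) := Nat.mul_le_mul h (by omega)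
      omega
    interval_cases q <;> omega
  by_cases hafour : a = 4
  · exfalso
    rw [hafour] at he
    have h1 : r ∣ 4 := by rw [he]; exact dvd_pow_self r he0
    have h2 : r ∣ 2 := hr.dvd_of_dvd_pow (n := 2) h1
    exact hr2 ((Nat.prime_dvd_prime_iff_eq hr Nat.prime_two).mp h2)
  obtain ⟨b, rfl⟩ : ∃ b, a = b + 1 := ⟨a - 1, by omega⟩
  have hb : 4 ≤ b := by omega
  have e1 : (b + 1) ^ 2 - 1 = b * (b + 2) := by
    have : (b + 1) ^ 2 = b * (b + 2) + 1 := by ring
    omega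
  have e2 : (b + 1) ^ 3 + 1 = (b + 2) * (b ^ 2 + b + 1) := by ring
  set d := Nat.gcd 3 (b + 1 + 1) with hd
  have hdb : d ∣ b + 1 + 1 := Nat.gcd_dvd_right _ _
  have hd3 : d ∣ 3 := Nat.gcd_dvd_left _ _
  have hcopd : d.Coprime (b + 1) := by
    have h1 : (b + 1).Coprime (b + 1 + 1) := by simp
    exact (h1.coprime_dvd_right hdb).symm
  have hp2' : ¬ p ∣ 2 := fun h => hp2 ((Nat.prime_dvd_prime_iff_eq hp Nat.prime_two).mp h)
  by_cases hrp : r = p
  · subst hrp
    have hra : r ∣ b + 1 := by rw [he]; exact dvd_pow_self r he0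
    have hrq : r ∣ q := by rw [hf]; exact dvd_pow_self r hf0
    have hrb : ¬ r ∣ b + 1 + 1 :=
      fun h => hr.one_lt.ne' (Nat.dvd_one.mp ((Nat.dvd_add_right hra).mp h))
    have hrd : ¬ r ∣ d := fun h => hrb (h.trans hdb)
    have hrq2 : ¬ r ∣ q ^ 2 - 1 := by
      intro h
      have h1 : r ∣ q ^ 2 := hrq.trans (dvd_pow_self q two_ne_zero)
      have h2 := Nat.dvd_sub h1 h
      rw [Nat.sub_sub_self (Nat.one_le_pow _ _ (by omega))] at h2
      exact hr.one_lt.ne' (Nat.dvd_one.mp h2)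
    have hra2 : ¬ r ∣ (b + 1) ^ 2 - 1 := by
      intro h
      have h1 : r ∣ (b + 1) ^ 2 := hra.trans (dvd_pow_self _ two_ne_zero)
      have h2 := Nat.dvd_sub h1 h
      rw [Nat.sub_sub_self (Nat.one_le_pow _ _ (by omega))] at h2
      exact hr.one_lt.ne' (Nat.dvd_one.mp h2)
    have hra3 : ¬ r ∣ (b + 1) ^ 3 + 1 := by
      intro h
      have h1 : r ∣ (b + 1) ^ 3 := hra.trans (dvd_pow_self _ three_ne_zero)
      exact hr.one_lt.ne' (Nat.dvd_one.mp ((Nat.dvd_add_right h1).mp h))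
    have ha3' : (b + 1) ^ 3 = r ^ (e * 3) := by rw [he, ← pow_mul]
    have hqa : q = (b + 1) ^ 3 := by
      apply Nat.dvd_antisymm
      · have h1 : q ∣ (b + 1) ^ 3 * (2 * (((b + 1) ^ 2 - 1) * ((b + 1) ^ 3 + 1))) := by
          have h2 : (b + 1) ^ 3 * (2 * (((b + 1) ^ 2 - 1) * ((b + 1) ^ 3 + 1))) =
              q * (d * (q ^ 2 - 1)) := by
            calc _ = 2 * ((b + 1) ^ 3 * (((b + 1) ^ 2 - 1) * ((b + 1) ^ 3 + 1))) := by ring
              _ = d * (q * (q ^ 2 - 1)) := heq.symm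
              _ = _ := by ring
          rw [h2]
          exact dvd_mul_right _ _
        refine (coprime_pow hr hf ?_).dvd_of_dvd_mul_right h1
        intro h3
        rcases (hr.dvd_mul).mp h3 with h4 | h4
        · exact hp2' h4
        · rcases (hr.dvd_mul).mp h4 with h5 | h5
          · exact hra2 h5
          · exact hra3 h5
      · have h1 : (b + 1) ^ 3 ∣ q * (d * (q ^ 2 - 1)) := by
          have h2 : q * (d * (q ^ 2 - 1)) =
              (b + 1) ^ 3 * (2 * (((b + 1) ^ 2 - 1) * ((b + 1) ^ 3 + 1))) := by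
            calc _ = d * (q * (q ^ 2 - 1)) := by ring
              _ = 2 * ((b + 1) ^ 3 * (((b + 1) ^ 2 - 1) * ((b + 1) ^ 3 + 1))) := heq
              _ = _ := by ring
          rw [h2]
          exact dvd_mul_right _ _
        refine (coprime_pow hr ha3' ?_).dvd_of_dvd_mul_right h1
        intro h3
        rcases (hr.dvd_mul).mp h3 with h4 | h4
        · exact hrd h4
        · exact hrq2 h4
    rw [← hqa] at heq
    have h1 : d * (q ^ 2 - 1) = 2 * (((b + 1) ^ 2 - 1) * (q + 1)) := by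
      apply Nat.eq_of_mul_eq_mul_left (show 0 < q by omega)
      calc q * (d * (q ^ 2 - 1)) = d * (q * (q ^ 2 - 1)) := by ring
        _ = _ := heq
        _ = _ := by ring
    have h2 : q ^ 2 - 1 = (q - 1) * (q + 1) := by
      obtain ⟨j, rfl⟩ : ∃ j, q = j + 1 := ⟨q - 1, by omega⟩
      rw [Nat.add_sub_cancel]
      have : (j + 1) ^ 2 = j * (j + 1 + 1) + 1 := by ring
      omega
    rw [h2] at h1
    have h3 : d * (q - 1) = 2 * ((b + 1) ^ 2 - 1) := by
      apply Nat.eq_of_mul_eq_mul_right (show 0 < q + 1 by omega)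
      calc d * (q - 1) * (q + 1) = d * ((q - 1) * (q + 1)) := by ring
        _ = _ := h1
        _ = _ := by ring
    have e3 : (b + 1) ^ 3 - 1 = b * (b ^ 2 + 3 * b + 3) := by
      have : (b + 1) ^ 3 = b * (b ^ 2 + 3 * b + 3) + 1 := by ring
      omega
    rw [e1, hqa, e3] at h3
    have hd1 : 1 ≤ d := Nat.pos_of_ne_zero (fun h => by rw [h] at hd3; omega)
    have h4 : b * (b ^ 2 + 3 * b + 3) ≤ d * (b * (b ^ 2 + 3 * b + 3)) :=
      Nat.le_mul_of_pos_left _ hd1
    rw [h3] at h4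
    nlinarith [pow_pos (show 0 < b by omega) 3]
  · have hcop : ((b + 1) ^ 3).Coprime q := by
      rw [he, hf, ← pow_mul]
      exact Nat.Coprime.pow _ _ ((Nat.coprime_primes hr hp).mpr hrp)
    have h1 : (b + 1) ^ 3 ∣ q ^ 2 - 1 := by
      have h2 : (b + 1) ^ 3 ∣ d * (q * (q ^ 2 - 1)) := by
        rw [heq]
        exact (dvd_mul_right _ _).mul_left 2
      have h3 := (Nat.Coprime.pow_left 3 hcopd.symm).dvd_of_dvd_mul_left h2
      exact hcop.dvd_of_dvd_mul_left h3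
    have h2 := cube_le hr hr2 he (by omega) h1
    have h3 : q ∣ (b * (b + 2)) * ((b + 2) * (b ^ 2 + b + 1)) := by
      rw [← e1, ← e2]
      have h4 : q ∣ 2 * ((b + 1) ^ 3 * (((b + 1) ^ 2 - 1) * ((b + 1) ^ 3 + 1))) := by
        rw [← heq]
        exact (dvd_mul_right _ _).mul_left d
      have h5 := (coprime_pow hp hf hp2').dvd_of_dvd_mul_left h4
      exact hcop.symm.dvd_of_dvd_mul_left h5
    have h4 := psu_bound hp hp2 hf h3 hb
    omega

end Cfsg.Agent.H363.ArithThree
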