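import Mathlib
import Cfsg.Agent.H363.Frat
import Cfsg.Agent.Lib.MinNormalNonabelian
import Cfsg.Agent.S0033
import Cfsg.Agent.OddOrderLocal.CyclicSub
import Cfsg.Agent.OddOrderLocal.ComplAux

/-!
# Isolated cyclic Hall subgroups

`G` finite of order `m * k`, `m` and `k` coprime, `x` an element of order `m`, and no element of
order `r * s` for primes `r ∣ m`, `s ∣ k`.  Then `T = ⟨x⟩` is its own centralizer, a TI subgroup,
`|G : N(T)| ≡ 1 mod m`, and if `|N(T) : T| = n` is a prime then `G` is simple or has a normal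
elementary abelian subgroup of order prime to `m`.
-/

set_option autoImplicit false

namespace Cfsg.Agent.H363.IsoHall

open Subgroup Cfsg.Agent.H363.Frat

/-- An isolated cyclic Hall subgroup `⟨x⟩` of order `m`. -/
structure Hyp (G : Type*) [Group G] (m k : ℕ) (x : G) : Prop where
  ord : orderOf x = m
  card : Nat.card G = m * k
  cop : m.Coprime k
  two : 2 ≤ m
  nonadj : ∀ r s : ℕ, r.Prime → s.Prime → r ∣ m → s ∣ k → NonAdj G r s

variable {G : Type*} [Group G] [Finite G] {m k : ℕ} {x : G}

omit [Finite G] in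
theorem card_zpowers (h : Hyp G m k x) : Nat.card (zpowers x) = m := by
  rw [Nat.card_zpowers, h.ord]

theorem k_pos (h : Hyp G m k x) : 0 < k := by
  rcases Nat.eq_zero_or_pos k with h0 | h0
  · have := h.card
    rw [h0, Nat.mul_zero] at this
    exact absurd this Nat.card_pos.ne'
  · exact h0

/-- A nontrivial element of `T` has a power of prime order `r ∣ m`. -/
theorem exists_prime_pow (h : Hyp G m k x) {y : G} (hy : y ∈ zpowers x) (hy1 : y ≠ 1) :
    ∃ (r j : ℕ), r.Prime ∧ r ∣ m ∧ orderOf (y ^ j) = r := by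
  have h1 : orderOf y ≠ 1 := fun h => hy1 (orderOf_eq_one_iff.mp h)
  obtain ⟨r, hr, hry⟩ := Nat.exists_prime_and_dvd h1
  obtain ⟨j, hj⟩ := hry
  have hj0 : j ≠ 0 := by
    rintro rfl
    exact (orderOf_pos y).ne' (by simpa using hj)
  refine ⟨r, j, hr, ?_, ?_⟩
  · have h2 : orderOf y ∣ m := by
      rw [← card_zpowers h]
      have := orderOf_dvd_natCard (⟨y, hy⟩ : zpowers x)
      rwa [Subgroup.orderOf_mk] at this
    exact (Dvd.intro _ hj.symm).trans h2
  · rw [orderOf_pow' y hj0, hj, Nat.gcd_eq_right (Dvd.intro_left _ rfl)]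
    exact Nat.mul_div_cancel _ (Nat.pos_of_ne_zero hj0)

/-- A subgroup centralizing a nontrivial element of `T` has order dividing `m`. -/
theorem card_dvd_of_centralizes (h : Hyp G m k x) {y : G} (hy : y ∈ zpowers x) (hy1 : y ≠ 1)
    {C : Subgroup G} (hC : ∀ c ∈ C, c * y = y * c) : Nat.card C ∣ m := by
  obtain ⟨r, j, hr, hrm, hj⟩ := exists_prime_pow h hy hy1
  have hcop : (Nat.card C).Coprime k := by
    rw [Nat.coprime_iff_gcd_eq_one]
    by_contra hne
    obtain ⟨s, hs, hsd⟩ := Nat.exists_prime_and_dvd hne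
    have hsC := hsd.trans (Nat.gcd_dvd_left _ _)
    have hsk := hsd.trans (Nat.gcd_dvd_right _ _)
    have : Fact s.Prime := ⟨hs⟩
    obtain ⟨c, hc⟩ := exists_prime_orderOf_dvd_card' s hsC
    have hcy : Commute (y ^ j) (c : G) := (Commute.pow_left (hC c c.2).symm j)
    have hrs : r ≠ s := by
      rintro rfl
      have h3 := Nat.dvd_gcd hrm hsk
      rw [h.cop] at h3
      exact hr.one_lt.ne' (Nat.dvd_one.mp h3)
    have hc1 : (c : G) ≠ 1 := by
      intro h1
      have : c = 1 := Subtype.ext h1
      rw [this, orderOf_one] at hc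
      exact hs.one_lt.ne hc
    have := eq_one_of_commute hr hs hrs (h.nonadj r s hr hs hrm hsk) (x := y ^ j) (y := c)
      ⟨1, by rw [hj, pow_one]⟩ ⟨1, by rw [Subgroup.orderOf_coe, hc, pow_one]⟩ hcy hc1
    rw [this, orderOf_one] at hj
    exact hr.one_lt.ne hj
  have h1 : Nat.card C ∣ m * k := by
    rw [← h.card]
    exact card_subgroup_dvd_card C
  exact hcop.dvd_of_dvd_mul_right h1

/-- `C_G(y) = T` for `1 ≠ y ∈ T`. -/
theorem mem_of_commute (h : Hyp G m k x) {y g : G} (hy : y ∈ zpowers x) (hy1 : y ≠ 1)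
    (hg : g * y = y * g) : g ∈ zpowers x := by
  have h1 : Nat.card (centralizer ({y} : Set G)) ∣ m := by
    apply card_dvd_of_centralizes h hy hy1
    intro c hc
    exact (mem_centralizer_singleton_iff.mp hc)
  have h2 : zpowers x ≤ centralizer ({y} : Set G) := by
    intro z hz
    rw [mem_centralizer_singleton_iff]
    obtain ⟨i, rfl⟩ := mem_zpowers_iff.mp hz
    obtain ⟨j, rfl⟩ := mem_zpowers_iff.mp hy
    exact (Commute.zpow_zpow (Commute.refl x) i j)
  have h3 : zpowers x = centralizer ({y} : Set G) := by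
    apply Subgroup.eq_of_le_of_card_ge h2
    rw [card_zpowers h]
    exact Nat.le_of_dvd (by have := h.two; omega) h1
  rw [h3, mem_centralizer_singleton_iff]
  exact hg

/-- A nontrivial subgroup of `T` has the same normalizer as `T`. -/
theorem normalizer_eq (h : Hyp G m k x) {S : Subgroup G} (hS : S ≤ zpowers x) (hS1 : S ≠ ⊥) :
    normalizer (S : Set G) = normalizer (zpowers x : Set G) := by
  apply le_antisymm
  · intro g hg
    rw [mem_normalizer_iff] at hg
    obtain ⟨⟨y, hyS⟩, hy1'⟩ := Subgroup.ne_bot_iff_exists_ne_one.mp hS1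
    have hy1 : y ≠ 1 := fun h => hy1' (Subtype.ext h)
    have key : ∀ u : G, (∀ z ∈ S, u * z = z * u) ↔ u ∈ zpowers x := by
      intro u
      constructor
      · intro hu
        exact mem_of_commute h (hS hyS) hy1 (hu _ hyS)
      · intro hu z hz
        obtain ⟨i, rfl⟩ := mem_zpowers_iff.mp hu
        obtain ⟨j, rfl⟩ := mem_zpowers_iff.mp (hS hz)
        exact (Commute.zpow_zpow (Commute.refl x) i j)
    rw [mem_normalizer_iff]
    intro u
    rw [← key, ← key]
    constructor
    · intro hu z hz
      have h1 : g⁻¹ * z * g ∈ S := by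
        rw [hg]
        convert hz using 1
        group
      have h2 := hu _ h1
      calc g * u * g⁻¹ * z = g * (u * (g⁻¹ * z * g)) * g⁻¹ := by group
        _ = g * ((g⁻¹ * z * g) * u) * g⁻¹ := by rw [h2]
        _ = z * (g * u * g⁻¹) := by group
    · intro hu z hz
      have h1 : g * z * g⁻¹ ∈ S := (hg z).mp hz
      have h2 := hu _ h1
      calc u * z = g⁻¹ * ((g * u * g⁻¹) * (g * z * g⁻¹)) * g := by group
        _ = g⁻¹ * ((g * z * g⁻¹) * (g * u * g⁻¹)) * g := by rw [h2]
        _ = z * u := by group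
  · intro g hg
    rw [mem_normalizer_iff_map_conj_eq] at hg ⊢
    have h1 : S.map (MulAut.conj g : G →* G) ≤ zpowers x := by
      rw [← hg]
      exact map_mono hS
    have hcard : Nat.card (S.map (MulAut.conj g : G →* G)) = Nat.card S :=
      Nat.card_congr (S.equivMapOfInjective _ (MulAut.conj g).injective).symm.toEquiv
    exact Cfsg.Agent.OddOrderLocal.CyclicSub.eq_of_card_eq_of_le_cyclic
      (inferInstance : IsCyclic (zpowers x)) h1 hS hcard

/-- `N_G(T)` acts on a nontrivial subgroup `S` of `T`; all orbits on `S - 1` have length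
`|N_G(T) : T|`. -/
theorem index_dvd (h : Hyp G m k x) {S : Subgroup G} (hS : S ≤ zpowers x) :
    (zpowers x).relIndex (normalizer (zpowers x : Set G)) ∣ Nat.card S - 1 := by
  by_cases hS1 : S = ⊥
  · rw [hS1, Subgroup.card_bot]
    exact dvd_zero _
  set N := normalizer (zpowers x : Set G) with hN
  have hNS : N = normalizer (S : Set G) := (normalizer_eq h hS hS1).symm
  let Y := {v : G // v ∈ S ∧ v ≠ 1}
  have hn : ∀ a : N, ∀ v ∈ S, (a : G) * v * (a : G)⁻¹ ∈ S := fun a v hv => by
    have ha : (a : G) ∈ normalizer (S : Set G) := hNS ▸ a.2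
    exact (mem_normalizer_iff.mp ha v).mp hv
  let _act : MulAction N Y :=
    { smul := fun a y => ⟨(a : G) * y.1 * (a : G)⁻¹, hn a _ y.2.1, fun h => y.2.2 (by
        have : y.1 = (a : G)⁻¹ * ((a : G) * y.1 * (a : G)⁻¹) * (a : G) := by group
        rw [this, h]; group)⟩
      one_smul := fun y => by
        apply Subtype.ext
        change ((1 : N) : G) * y.1 * ((1 : N) : G)⁻¹ = y.1
        simp
      mul_smul := fun a b y => by
        apply Subtype.ext
        change ((a * b : N) : G) * y.1 * ((a * b : N) : G)⁻¹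
          = (a : G) * ((b : G) * y.1 * (b : G)⁻¹) * (a : G)⁻¹
        rw [Subgroup.coe_mul]; group }
  have hstab : ∀ y : Y, MulAction.stabilizer N y = (zpowers x).subgroupOf N := by
    intro y
    ext a
    rw [MulAction.mem_stabilizer_iff, mem_subgroupOf]
    constructor
    · intro ha
      have h1 : (a : G) * y.1 * (a : G)⁻¹ = y.1 := congrArg Subtype.val ha
      apply mem_of_commute h (hS y.2.1) y.2.2
      calc (a : G) * y.1 = ((a : G) * y.1 * (a : G)⁻¹) * (a : G) := by group
        _ = y.1 * (a : G) := by rw [h1]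
    · intro ha
      apply Subtype.ext
      change (a : G) * y.1 * (a : G)⁻¹ = y.1
      obtain ⟨i, hi⟩ := mem_zpowers_iff.mp ha
      obtain ⟨j, hj⟩ := mem_zpowers_iff.mp (hS y.2.1)
      have : (a : G) * y.1 = y.1 * (a : G) := by
        rw [← hi, ← hj]
        exact (Commute.zpow_zpow (Commute.refl x) i j)
      rw [this]; group
  have e := MulAction.selfEquivSigmaOrbits N Y
  have : Fintype (Quotient (MulAction.orbitRel N Y)) := Fintype.ofFinite _
  have h1 : ∀ y : Y, Nat.card (MulAction.orbit N y) = (zpowers x).relIndex N := by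
    intro y
    rw [Nat.card_congr (MulAction.orbitEquivQuotientStabilizer N y), hstab]
    rfl
  have h2 : Nat.card Y = Nat.card S - 1 := by
    have h3 : Nat.card Y + 1 = Nat.card S := by
      have h4 : Nat.card Y = ((S : Set G) \ {1}).ncard := by
        rw [← Nat.card_coe_set_eq]
        rfl
      rw [h4, Set.ncard_sdiff_singleton_add_one (one_mem S) (Set.toFinite _)]
      exact (Nat.card_coe_set_eq _).symm
    omega
  rw [← h2, Nat.card_congr e, Nat.card_sigma]
  apply Finset.dvd_sum
  intro ω _
  rw [h1]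

/-- An element of `N_G(T)` of order dividing a power of `m` lies in `T`. -/
theorem mem_of_pow (h : Hyp G m k x) {g : G} (hg : g ∈ normalizer (zpowers x : Set G))
    (hgm : orderOf g ∣ m) : g ∈ zpowers x := by
  -- the order of `⟨g⟩ T`
  have h1 : Nat.card (zpowers g ⊔ zpowers x : Subgroup G) ∣ m * m := by
    have h2 := Subgroup.card_mul_index ((zpowers x).subgroupOf (zpowers g ⊔ zpowers x))
    have h3 : (zpowers x).relIndex (zpowers g ⊔ zpowers x) ∣ m := by
      have hle : zpowers g ≤ normalizer (zpowers x : Set G) := by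
        rw [zpowers_le]; exact hg
      have h4 : (zpowers x).relIndex (zpowers g ⊔ zpowers x) = (zpowers x).relIndex (zpowers g) :=
        Cfsg.Agent.OddOrderLocal.ComplAux.relIndex_sup_of_le_normalizer hle
      rw [h4]
      refine (relIndex_dvd_card _ _).trans ?_
      rw [Nat.card_zpowers]
      exact hgm
    rw [← h2, Nat.card_congr (subgroupOfEquivOfLe le_sup_right).toEquiv, card_zpowers h]
    exact Nat.mul_dvd_mul_left m h3
  have h2 : Nat.card (zpowers g ⊔ zpowers x : Subgroup G) ∣ m := by
    have h3 : Nat.card (zpowers g ⊔ zpowers x : Subgroup G) ∣ m * k := by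
      rw [← h.card]
      exact card_subgroup_dvd_card _
    have h4 : (Nat.card (zpowers g ⊔ zpowers x : Subgroup G)).Coprime k :=
      Nat.Coprime.coprime_dvd_left h1 (h.cop.mul_left h.cop)
    exact h4.dvd_of_dvd_mul_right h3
  have h3 : zpowers x = zpowers g ⊔ zpowers x := by
    apply Subgroup.eq_of_le_of_card_ge le_sup_right
    rw [card_zpowers h]
    exact Nat.le_of_dvd (by have := h.two; omega) h2
  rw [h3]
  exact mem_sup_left (mem_zpowers g)

/-- `|G : N_G(T)| ≡ 1 mod m`. -/
theorem index_modEq (h : Hyp G m k x) :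
    m ∣ (normalizer (zpowers x : Set G)).index - 1 := by
  set N := normalizer (zpowers x : Set G) with hN
  let Y := {c : G ⧸ N // c ≠ (1 : G)}
  let _act : MulAction (zpowers x) Y :=
    { smul := fun a y => ⟨(a : G) • y.1, fun hc => y.2 (by
        have h1 : y.1 = (a : G)⁻¹ • ((a : G) • y.1) := by rw [inv_smul_smul]
        rw [h1, hc]
        change ((((a : G)⁻¹ * 1 : G)) : G ⧸ N) = ((1 : G) : G ⧸ N)
        rw [QuotientGroup.eq]
        have h2 : ((a : G)⁻¹ * 1)⁻¹ * 1 = (a : G) := by group
        rw [h2]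
        exact le_normalizer a.2)⟩
      one_smul := fun y => by
        apply Subtype.ext
        change ((1 : zpowers x) : G) • y.1 = y.1
        simp
      mul_smul := fun a b y => by
        apply Subtype.ext
        change ((a * b : zpowers x) : G) • y.1 = (a : G) • ((b : G) • y.1)
        rw [Subgroup.coe_mul, mul_smul] }
  have h1 : Nat.card (zpowers x) ∣ Nat.card Y := by
    apply card_dvd_of_free
    rintro a ⟨c, hc⟩ hay
    by_contra ha1
    have h2 : (a : G) • c = c := congrArg Subtype.val hay
    obtain ⟨g, rfl⟩ := QuotientGroup.mk_surjective c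
    have h3 : g⁻¹ * (a : G) * g ∈ N := by
      have h4 : ((((a : G) * g : G)) : G ⧸ N) = (g : G ⧸ N) := h2
      rw [eq_comm, QuotientGroup.eq] at h4
      convert h4 using 1
      group
    have ha : (a : G) ≠ 1 := fun hh => ha1 (Subtype.ext hh)
    have h4 : g⁻¹ * (a : G) * g ∈ zpowers x := by
      apply mem_of_pow h h3
      have h5 : orderOf (g⁻¹ * (a : G) * g) = orderOf (a : G) := by
        have := orderOf_injective (MulAut.conj g⁻¹ : G →* G) (MulAut.conj g⁻¹).injective (a : G)
        rw [← this]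
        simp
      rw [h5, ← card_zpowers h, Subgroup.orderOf_coe]
      exact orderOf_dvd_natCard a
    have h5 : g⁻¹ * (a : G) * g ≠ 1 := by
      intro h6
      apply ha
      calc (a : G) = g * (g⁻¹ * (a : G) * g) * g⁻¹ := by group
        _ = 1 := by rw [h6]; group
    -- `T` and `g⁻¹ T g` meet nontrivially
    apply hc
    rw [eq_comm, QuotientGroup.eq]
    have h6 : (1 : G)⁻¹ * g = g := by group
    rw [h6]
    have h7 : zpowers x ≤ (zpowers x).map (MulAut.conj g : G →* G) := by
      intro u hu
      refine ⟨g⁻¹ * u * g, ?_, by simp [MulAut.conj_apply]; group⟩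
      apply mem_of_commute h h4 h5
      have h8 : u * (a : G) = (a : G) * u := by
        obtain ⟨i, hi⟩ := mem_zpowers_iff.mp hu
        obtain ⟨j, hj⟩ := mem_zpowers_iff.mp a.2
        rw [← hi, ← hj]
        exact (Commute.zpow_zpow (Commute.refl x) i j)
      calc g⁻¹ * u * g * (g⁻¹ * (a : G) * g) = g⁻¹ * (u * (a : G)) * g := by group
        _ = g⁻¹ * ((a : G) * u) * g := by rw [h8]
        _ = g⁻¹ * (a : G) * g * (g⁻¹ * u * g) := by group
    have h8 : zpowers x = (zpowers x).map (MulAut.conj g : G →* G) := by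
      apply Subgroup.eq_of_le_of_card_ge h7
      rw [Nat.card_congr ((zpowers x).equivMapOfInjective _
        (MulAut.conj g).injective).symm.toEquiv]
    rw [hN, mem_normalizer_iff_map_conj_eq]
    exact h8.symm
  have h2 : Nat.card Y = N.index - 1 := by
    have h3 : Nat.card Y + 1 = N.index := by
      have h4 : Nat.card Y = ((Set.univ : Set (G ⧸ N)) \ {((1 : G) : G ⧸ N)}).ncard := by
        rw [← Nat.card_coe_set_eq]
        apply Nat.card_congr
        exact Equiv.subtypeEquivRight (fun c => by simp)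
      rw [h4, Set.ncard_sdiff_singleton_add_one (Set.mem_univ _) (Set.toFinite _),
        Set.ncard_univ]
      rfl
    omega
  rw [← h2, ← card_zpowers h]
  exact h1

/-- The order of `N_G(T)`. -/
theorem card_normalizer (h : Hyp G m k x) {n : ℕ} (hn : n < m) (hkn : k ≡ n [MOD m]) (hn1 : 1 ≤ n) :
    (zpowers x).relIndex (normalizer (zpowers x : Set G)) = n ∧
      Nat.card (normalizer (zpowers x : Set G)) = m * n := by
  set N := normalizer (zpowers x : Set G) with hN
  set n' := (zpowers x).relIndex N with hn'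
  have hcardN : Nat.card N = m * n' := by
    have h1 := Subgroup.card_mul_index ((zpowers x).subgroupOf N)
    rw [Nat.card_congr (subgroupOfEquivOfLe le_normalizer).toEquiv, card_zpowers h] at h1
    exact h1.symm
  have hpos : 0 < N.index := Nat.pos_of_ne_zero Subgroup.index_ne_zero_of_finite
  have hm := h.two
  have h1 : k = n' * N.index := by
    have h2 := N.card_mul_index
    rw [hcardN, h.card, Nat.mul_assoc] at h2
    exact (Nat.eq_of_mul_eq_mul_left (by omega) h2).symm
  have h3 : k ≡ n' [MOD m] := by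
    have h4 : N.index ≡ 1 [MOD m] := by
      have h5 := index_modEq h
      exact ((Nat.modEq_iff_dvd' hpos).mpr h5).symm
    rw [h1]
    simpa using Nat.ModEq.mul_left n' h4
  have h4 : n' ∣ m - 1 := by
    have := index_dvd h (le_refl (zpowers x))
    rwa [card_zpowers h] at this
  have h5 : n' < m := by
    have := Nat.le_of_dvd (by omega) h4
    omega
  have h6 : n' = n := by
    have h7 : n' ≡ n [MOD m] := h3.symm.trans hkn
    rw [Nat.ModEq, Nat.mod_eq_of_lt h5, Nat.mod_eq_of_lt hn] at h7
    exact h7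
  exact ⟨h6, by rw [hcardN, h6]⟩

/-- Every prime factor `r` of `m` satisfies `r ≡ 1 mod n`. -/
theorem dvd_sub_one (h : Hyp G m k x) {n : ℕ} (hn : n < m) (hkn : k ≡ n [MOD m]) (hn1 : 1 ≤ n)
    {r : ℕ} (hr : r.Prime) (hrm : r ∣ m) : n ∣ r - 1 := by
  have : Fact r.Prime := ⟨hr⟩
  obtain ⟨c, hc⟩ := hrm
  have hc0 : c ≠ 0 := by
    rintro rfl
    have := h.two
    omega
  have h1 : orderOf (x ^ c) = r := by
    rw [orderOf_pow' x hc0, h.ord, hc, Nat.gcd_eq_right (Dvd.intro_left _ rfl)]
    exact Nat.mul_div_cancel _ (Nat.pos_of_ne_zero hc0)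
  have h2 := index_dvd h (S := zpowers (x ^ c)) (by
    rw [zpowers_le]
    exact pow_mem (mem_zpowers x) c)
  rw [(card_normalizer h hn hkn hn1).1, Nat.card_zpowers, h1] at h2
  exact h2

/-- A normal subgroup of order prime to `m` is nilpotent. -/
theorem nilpotent_of_coprime (h : Hyp G m k x) {N : Subgroup G} (hNn : N.Normal)
    (hN : (Nat.card N).Coprime m) : Group.IsNilpotent N := by
  by_cases hN1 : N = ⊥
  · subst hN1
    have : Subsingleton (⊥ : Subgroup G) := inferInstance
    infer_instance
  have hx1 : x ≠ 1 := by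
    rintro rfl
    have h1 := h.ord
    rw [orderOf_one] at h1
    have := h.two
    omega
  obtain ⟨r, j, hr, hrm, hj⟩ := exists_prime_pow h (mem_zpowers x) hx1
  have : Fact r.Prime := ⟨hr⟩
  set y := x ^ j with hy
  have hfix : ∀ z ∈ N, y * z = z * y → z = 1 := by
    intro z hz hyz
    by_contra hz1
    have h1 : orderOf z ≠ 1 := fun h => hz1 (orderOf_eq_one_iff.mp h)
    obtain ⟨s, hs, hsz⟩ := Nat.exists_prime_and_dvd h1
    have hsN : s ∣ Nat.card N := by
      have := orderOf_dvd_natCard (⟨z, hz⟩ : N)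
      rw [Subgroup.orderOf_mk] at this
      exact hsz.trans this
    have hsk : s ∣ k := by
      have h2 : s ∣ m * k := by
        rw [← h.card]
        exact hsN.trans (card_subgroup_dvd_card N)
      rcases hs.dvd_mul.mp h2 with h3 | h3
      · have h4 := Nat.dvd_gcd hsN h3
        rw [hN] at h4
        exact absurd (Nat.dvd_one.mp h4) hs.one_lt.ne'
      · exact h3
    obtain ⟨i, hi⟩ := hsz
    have hi0 : i ≠ 0 := by
      rintro rfl
      exact (orderOf_pos z).ne' (by simpa using hi)
    have h2 : orderOf (z ^ i) = s := by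
      rw [orderOf_pow' z hi0, hi, Nat.gcd_eq_right (Dvd.intro_left _ rfl)]
      exact Nat.mul_div_cancel _ (Nat.pos_of_ne_zero hi0)
    have hrs : r ≠ s := by
      rintro rfl
      have h3 := Nat.dvd_gcd hrm hsk
      rw [h.cop] at h3
      exact hr.one_lt.ne' (Nat.dvd_one.mp h3)
    have h3 := eq_one_of_commute hr hs hrs (h.nonadj r s hr hs hrm hsk) (x := y) (y := z ^ i)
      ⟨1, by rw [hj, pow_one]⟩ ⟨1, by rw [h2, pow_one]⟩ (Commute.pow_right hyz i) (by
        intro h4
        rw [h4, orderOf_one] at h2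
        exact hs.one_lt.ne h2)
    rw [h3, orderOf_one] at hj
    exact hr.one_lt.ne hj
  let φ : MulAut N := MulAut.conjNormal y
  have hφ : ∀ z : N, φ z = z → z = 1 := by
    intro z hz
    have h1 : y * (z : G) * y⁻¹ = z := by
      rw [← MulAut.conjNormal_apply]
      exact congrArg Subtype.val hz
    apply Subtype.ext
    apply hfix z z.2
    calc y * (z : G) = (y * z * y⁻¹) * y := by group
      _ = z * y := by rw [h1]
  refine Cfsg.Agent.S0033.result φ ?_ r hr ?_
  · intro z hz
    exact hφ z hz
  · apply orderOf_eq_prime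
    · rw [← map_pow, ← hj, pow_orderOf_eq_one, map_one]
    · intro h1
      apply hN1
      rw [eq_bot_iff]
      intro z hz
      have := hφ ⟨z, hz⟩ (by rw [h1]; rfl)
      exact Subgroup.mem_bot.mpr (congrArg Subtype.val this)

end Cfsg.Agent.H363.IsoHall
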