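import Mathlib
import Cfsg.Agent.H363.IsoHall
import Cfsg.Agent.Lib.SubnormalJoin
import Cfsg.Agent.Lib.NormalAbelian

/-!
# Isolated cyclic Hall subgroups: simplicity

`simple_or`: `G` of order `m * k` with an isolated cyclic Hall subgroup of order `m`,
`k ≡ n mod m`, `n` prime, `n < m`, `n < k`: then `G` is simple or has a nontrivial normal abelian
`t`-subgroup `N`, `t ∣ k`, with `m ∣ |N| - 1`.
-/

set_option autoImplicit false

namespace Cfsg.Agent.H363.IsoHall

open Subgroup Cfsg.Agent.H363.Frat

variable {G : Type*} [Group G] [Finite G] {m k : ℕ} {x : G}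

/-- `N` normal, `c ∣ |G : N|`, the primes of `c` are not adjacent to `s`: `c ∣ |N|_s - 1`. -/
theorem dvd_of_normal {s : ℕ} (hs : s.Prime) (N : Subgroup G) [N.Normal] {c : ℕ}
    (hc : c ∣ N.index) (hadj : ∀ r, r.Prime → r ∣ c → r ≠ s ∧ NonAdj G r s) :
    c ∣ s ^ (Nat.card N).factorization s - 1 := by
  rw [Nat.dvd_iff_prime_pow_dvd_dvd]
  intro r j hr hrj
  rcases Nat.eq_zero_or_pos j with hj | hj
  · rw [hj, pow_zero]
    exact one_dvd _
  have hrc : r ∣ c := (dvd_pow_self r hj.ne').trans hrj
  exact pow_dvd_of_normal hr hs (hadj r hr hrc).1 (hadj r hr hrc).2 N (hrj.trans hc)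

omit [Finite G] in
/-- Conjugates. -/
theorem conj_hyp (h : Hyp G m k x) (g : G) : Hyp G m k (g * x * g⁻¹) where
  ord := by
    have := orderOf_injective (MulAut.conj g : G →* G) (MulAut.conj g).injective x
    rw [← h.ord, ← this]
    simp
  card := h.card
  cop := h.cop
  two := h.two
  nonadj := h.nonadj

/-- Every `r`-subgroup, `r ∣ m`, lies in a conjugate of `T`. -/
theorem exists_le (h : Hyp G m k x) {r : ℕ} (hr : r.Prime) (hrm : r ∣ m) {S : Subgroup G}
    (hS : IsPGroup r S) : ∃ y, Hyp G m k y ∧ S ≤ zpowers y := by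
  have : Fact r.Prime := ⟨hr⟩
  obtain ⟨Q, hQ⟩ := hS.exists_le_sylow
  let R : Sylow r (zpowers x) := default
  have hk0 : k ≠ 0 := (k_pos h).ne'
  have hm0 : m ≠ 0 := by have := h.two; omega
  have hcard : Nat.card ((R : Subgroup (zpowers x)).map (zpowers x).subtype)
      = r ^ (Nat.card G).factorization r := by
    rw [Nat.card_congr ((R : Subgroup (zpowers x)).equivMapOfInjective _
      (zpowers x).subtype_injective).symm.toEquiv, R.card_eq_multiplicity, card_zpowers h,
      h.card, Nat.factorization_mul hm0 hk0, Finsupp.add_apply]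
    have h1 : k.factorization r = 0 := by
      apply Nat.factorization_eq_zero_of_not_dvd
      intro h2
      have h3 := Nat.dvd_gcd hrm h2
      rw [h.cop] at h3
      exact hr.one_lt.ne' (Nat.dvd_one.mp h3)
    rw [h1, Nat.add_zero]
  let R' : Sylow r G := Sylow.ofCard _ hcard
  obtain ⟨g, hg⟩ := MulAction.exists_smul_eq G R' Q
  refine ⟨g * x * g⁻¹, conj_hyp h g, hQ.trans ?_⟩
  rw [← hg]
  intro y hy
  rw [Sylow.coe_subgroup_smul] at hy
  obtain ⟨z, hz, rfl⟩ := hy
  obtain ⟨w, _, rfl⟩ := hz
  obtain ⟨i, hi⟩ := mem_zpowers_iff.mp w.2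
  rw [mem_zpowers_iff]
  refine ⟨i, ?_⟩
  rw [conj_zpow, hi]
  rfl

/-- The main case division for a minimal normal subgroup of order not prime to `m`. -/
theorem eq_top_of_minimal (h : Hyp G m k x) {n : ℕ} (hn : n.Prime) (hnm : n < m)
    (hkn : k ≡ n [MOD m]) (hk : n < k) {N : Subgroup G} (hNn : N.Normal)
    (hmin : ∀ L : Subgroup G, L.Normal → L ≤ N → L = ⊥ ∨ L = N)
    (hcop : ¬ (Nat.card N).Coprime m) : N = ⊤ := by
  obtain ⟨r, hr, hrd⟩ := Nat.exists_prime_and_dvd (fun h => hcop (Nat.coprime_iff_gcd_eq_one.mpr h))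
  have hrN := hrd.trans (Nat.gcd_dvd_left _ _)
  have hrm := hrd.trans (Nat.gcd_dvd_right _ _)
  have : Fact r.Prime := ⟨hr⟩
  let P : Sylow r N := default
  set S : Subgroup G := (P : Subgroup N).map N.subtype with hSdef
  have hSN : S ≤ N := by
    rintro _ ⟨z, _, rfl⟩
    exact z.2
  have hSp : IsPGroup r S := P.2.map _
  have hcardS : Nat.card S = Nat.card (P : Subgroup N) :=
    Nat.card_congr ((P : Subgroup N).equivMapOfInjective N.subtype
      N.subtype_injective).symm.toEquiv
  have hP1 : r ∣ Nat.card (P : Subgroup N) := by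
    rw [P.card_eq_multiplicity]
    exact dvd_pow_self r (by
      have := (hr.dvd_iff_one_le_factorization Nat.card_pos.ne').mp hrN
      omega)
  have hS1 : S ≠ ⊥ := by
    intro hb
    rw [← hcardS, hb, Subgroup.card_bot] at hP1
    exact hr.one_lt.ne' (Nat.dvd_one.mp hP1)
  obtain ⟨y, hy, hSy⟩ := exists_le h hr hrm hSp
  clear h
  have hnorm := normalizer_eq hy hSy hS1
  set M := normalizer (zpowers y : Set G) with hM
  have hfrat : M ⊔ N = ⊤ := by
    rw [← hnorm]
    exact Sylow.normalizer_sup_eq_top P
  have hidx : N.relIndex M = N.index := by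
    rw [← relIndex_sup_right, hfrat, relIndex_top_right]
  obtain ⟨hrel, hcardM⟩ := card_normalizer hy hnm hkn hn.one_lt.le
  rw [← hM] at hrel hcardM
  have hTM : zpowers y ≤ M := le_normalizer
  by_cases hA : N ⊓ M ≤ zpowers y
  · -- Burnside
    exfalso
    have hPN : normalizer ((P : Subgroup N) : Set N) ≤ centralizer ((P : Subgroup N) : Set N) := by
      intro a ha
      have h1 : (a : G) ∈ normalizer (S : Set G) := by
        rw [mem_normalizer_iff]
        rw [mem_normalizer_iff] at ha
        intro u
        constructor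
        · rintro ⟨v, hv, rfl⟩
          exact ⟨a * v * a⁻¹, (ha v).mp hv, rfl⟩
        · rintro ⟨v, hv, hvu⟩
          have hu : u = (a : G)⁻¹ * v * a := by
            have h2 : (v : G) = a * u * (a : G)⁻¹ := hvu
            rw [h2]; group
          refine ⟨a⁻¹ * v * a, ?_, ?_⟩
          · rw [SetLike.mem_coe, ha]
            have h3 : a * (a⁻¹ * v * a) * a⁻¹ = v := by group
            rw [h3]
            exact hv
          · rw [hu]; rfl
      have h2 : (a : G) ∈ zpowers y := hA ⟨a.2, by rw [← hnorm]; exact h1⟩
      rw [mem_centralizer_iff]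
      intro u hu
      apply Subtype.ext
      have h3 : (u : G) ∈ zpowers y := hSy ⟨u, hu, rfl⟩
      obtain ⟨i, hi⟩ := mem_zpowers_iff.mp h2
      obtain ⟨j, hj⟩ := mem_zpowers_iff.mp h3
      rw [Subgroup.coe_mul, Subgroup.coe_mul, ← hi, ← hj]
      exact (Commute.zpow_zpow (Commute.refl y) j i)
    have hcompl := MonoidHom.ker_transferSylow_isComplement' P hPN
    set K : Subgroup N := (MonoidHom.transferSylow P hPN).ker with hK
    have hKc : Nat.card K * Nat.card (P : Subgroup N) = Nat.card N := hcompl.card_mul_card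
    have hKidx : K.index = Nat.card (P : Subgroup N) := by
      have h1 := K.card_mul_index
      rw [← hKc] at h1
      exact Nat.eq_of_mul_eq_mul_left Nat.card_pos h1
    have hKcop : (Nat.card K).Coprime K.index := by
      have h1 : ¬ r ∣ Nat.card K := by
        intro h2
        have h3 := P.not_dvd_index
        have h4 := (P : Subgroup N).card_mul_index
        rw [← hKc, Nat.mul_comm] at h4
        have h5 : (P : Subgroup N).index = Nat.card K := Nat.eq_of_mul_eq_mul_right Nat.card_pos h4
        exact h3 (h5 ▸ h2)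
      rw [hKidx, P.card_eq_multiplicity]
      exact Nat.Coprime.pow_right _ ((Nat.Prime.coprime_iff_not_dvd hr).mpr h1).symm
    have hchar : ∀ z : N, z ∈ K ↔ z ^ Nat.card K = 1 := by
      intro z
      constructor
      · intro hz
        have := pow_card_eq_one' (x := (⟨z, hz⟩ : K))
        exact congrArg Subtype.val this
      · intro hz
        have h1 : (QuotientGroup.mk z : N ⧸ K) = 1 := by
          rw [← orderOf_eq_one_iff]
          apply Nat.eq_one_of_dvd_coprimes hKcop
          · apply orderOf_dvd_of_pow_eq_one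
            rw [← QuotientGroup.mk_pow, hz, QuotientGroup.mk_one]
          · exact orderOf_dvd_natCard _
        exact (QuotientGroup.eq_one_iff z).mp h1
    have hKn : (K.map N.subtype).Normal := by
      constructor
      rintro _ ⟨z, hz, rfl⟩ g
      refine ⟨⟨g * z * g⁻¹, hNn.conj_mem z z.2 g⟩, ?_, rfl⟩
      rw [SetLike.mem_coe, hchar]
      apply Subtype.ext
      have h1 : (z : G) ^ Nat.card K = 1 := by
        have := (hchar z).mp hz
        exact congrArg Subtype.val this
      simp only [SubgroupClass.coe_pow, Subgroup.coe_one]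
      rw [conj_pow, h1]; group
    have hKN : K.map N.subtype ≤ N := by
      rintro _ ⟨z, _, rfl⟩
      exact z.2
    have hcK : Nat.card (K.map N.subtype) = Nat.card K :=
      Nat.card_congr (K.equivMapOfInjective N.subtype N.subtype_injective).symm.toEquiv
    rcases hmin _ hKn hKN with hb | hb
    · -- `K = 1`, `N = S`
      rw [hb, Subgroup.card_bot] at hcK
      rw [← hcK, Nat.one_mul] at hKc
      have hNS : S = N := by
        apply Subgroup.eq_of_le_of_card_ge hSN
        rw [hcardS, hKc]
      have h1 : M = ⊤ := by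
        rw [← hnorm, hNS]
        exact normalizer_eq_top_iff.mpr hNn
      rw [h1, Subgroup.card_top, hy.card] at hcardM
      have h2 := Nat.eq_of_mul_eq_mul_left (by have := hy.two; omega) hcardM
      omega
    · rw [hb] at hcK
      rw [← hcK] at hKc
      have h1 : Nat.card (P : Subgroup N) = 1 := by
        have h2 : Nat.card N * Nat.card (P : Subgroup N) = Nat.card N * 1 := by
          rw [hKc, Nat.mul_one]
        exact Nat.eq_of_mul_eq_mul_left Nat.card_pos h2
      rw [h1] at hP1
      exact hr.one_lt.ne' (Nat.dvd_one.mp hP1)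
  · -- `N` covers `N_G(T) / T`
    have hsup : (N ⊓ M) ⊔ zpowers y = M := by
      have hle : (N ⊓ M) ⊔ zpowers y ≤ M := sup_le inf_le_right hTM
      have h1 := relIndex_mul_relIndex (zpowers y) ((N ⊓ M) ⊔ zpowers y) M le_sup_right hle
      rw [hrel] at h1
      have h2 : (zpowers y).relIndex ((N ⊓ M) ⊔ zpowers y) ∣ n := Dvd.intro _ h1
      rcases (Nat.dvd_prime hn).mp h2 with h3 | h3
      · exfalso
        apply hA
        rw [relIndex_eq_one] at h3
        exact le_sup_left.trans h3
      · rw [h3] at h1
        have h4 : ((N ⊓ M) ⊔ zpowers y).relIndex M = 1 := by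
          have h5 : n * ((N ⊓ M) ⊔ zpowers y).relIndex M = n * 1 := by rw [h1, Nat.mul_one]
          exact Nat.eq_of_mul_eq_mul_left hn.pos h5
        rw [relIndex_eq_one] at h4
        exact le_antisymm hle h4
    have h1 : (zpowers y).relIndex (N ⊓ M) = n := by
      rw [← Cfsg.Agent.OddOrderLocal.ComplAux.relIndex_sup_of_le_normalizer
        (K := N ⊓ M) (S := zpowers y) inf_le_right, hsup, hrel]
    -- the index of `N` divides `m`
    have hcm : N.index ∣ m := by
      have h2 : N.relIndex M * Nat.card (N ⊓ M : Subgroup G) = Nat.card M := by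
        have h3 := Subgroup.card_mul_index (N.subgroupOf M)
        rw [← h3, Nat.mul_comm]
        congr 1
        rw [← inf_subgroupOf_right]
        exact Nat.card_congr (subgroupOfEquivOfLe inf_le_right).symm.toEquiv
      have h3 : Nat.card (N ⊓ M : Subgroup G) = Nat.card ((zpowers y).subgroupOf (N ⊓ M)) * n := by
        rw [← h1]
        exact (Subgroup.card_mul_index _).symm
      rw [hidx, hcardM, h3] at h2
      have h4 : N.index * Nat.card ((zpowers y).subgroupOf (N ⊓ M)) = m := by
        apply Nat.eq_of_mul_eq_mul_right hn.pos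
        rw [← h2, Nat.mul_assoc]
      exact Dvd.intro _ h4
    have hcpos : 0 < N.index := Nat.pos_of_ne_zero Subgroup.index_ne_zero_of_finite
    have hm2 := hy.two
    have hk0 := k_pos hy
    -- all the prime power parts of `k` are `≡ 1` modulo the index
    have hmod : k ≡ 1 [MOD N.index] := by
      have hpart : ∀ s ∈ k.primeFactors, s ^ k.factorization s ≡ 1 [MOD N.index] := by
        intro s hs
        have hsp := Nat.prime_of_mem_primeFactors hs
        have hsk := Nat.dvd_of_mem_primeFactors hs
        have hsm : ¬ s ∣ m := by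
          intro h2
          have h3 := Nat.dvd_gcd h2 hsk
          rw [hy.cop] at h3
          exact hsp.one_lt.ne' (Nat.dvd_one.mp h3)
        have h2 := dvd_of_normal hsp N (dvd_refl N.index) (by
          intro r' hr' hrc
          have hrm' := hrc.trans hcm
          exact ⟨by rintro rfl; exact hsm hrm', hy.nonadj r' s hr' hsp hrm' hsk⟩)
        have h3 : (Nat.card N).factorization s = k.factorization s := by
          have h4 := N.card_mul_index
          have h5 : (Nat.card N * N.index).factorization s = (m * k).factorization s := by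
            rw [h4, hy.card]
          rw [Nat.factorization_mul Nat.card_pos.ne' hcpos.ne',
            Nat.factorization_mul (by omega) hk0.ne', Finsupp.add_apply, Finsupp.add_apply,
            Nat.factorization_eq_zero_of_not_dvd hsm,
            Nat.factorization_eq_zero_of_not_dvd (fun h6 => hsm (h6.trans hcm))] at h5
          omega
        rw [h3] at h2
        exact ((Nat.modEq_iff_dvd' (Nat.one_le_pow _ _ hsp.pos)).mpr h2).symm
      have h2 : ∏ s ∈ k.primeFactors, s ^ k.factorization s ≡ ∏ s ∈ k.primeFactors, 1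
          [MOD N.index] := by
        have key : ∀ F : Finset ℕ, (∀ s ∈ F, s ^ k.factorization s ≡ 1 [MOD N.index]) →
            ∏ s ∈ F, s ^ k.factorization s ≡ ∏ s ∈ F, 1 [MOD N.index] := by
          intro F
          induction F using Finset.induction_on with
          | empty => intro _; rfl
          | insert a F ha ih =>
            intro hF
            rw [Finset.prod_insert ha, Finset.prod_insert ha]
            exact (hF a (Finset.mem_insert_self a F)).mul
              (ih fun s hs => hF s (Finset.mem_insert_of_mem hs))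
        exact key _ hpart
      rw [Finset.prod_const_one] at h2
      have h3 := Nat.prod_factorization_pow_eq_self hk0.ne'
      rw [Finsupp.prod, Nat.support_factorization] at h3
      rwa [h3] at h2
    have hmod2 : n ≡ 1 [MOD N.index] := (hkn.of_dvd hcm).symm.trans hmod
    have hdvd : N.index ∣ n - 1 := (Nat.modEq_iff_dvd' hn.one_lt.le).mp hmod2.symm
    rw [← index_eq_one]
    by_contra hne
    obtain ⟨t, ht, htd⟩ := Nat.exists_prime_and_dvd hne
    have h2 := dvd_sub_one hy hnm hkn hn.one_lt.le ht (htd.trans hcm)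
    have h3 := Nat.le_of_dvd (by have := ht.two_le; omega) h2
    have h4 := Nat.le_of_dvd (by have := hn.two_le; omega) (htd.trans hdvd)
    have := ht.two_le
    omega

/-- **Main theorem.** -/
theorem simple_or (h : Hyp G m k x) {n : ℕ} (hn : n.Prime) (hnm : n < m)
    (hkn : k ≡ n [MOD m]) (hk : n < k) :
    IsSimpleGroup G ∨ ∃ (t : ℕ) (N : Subgroup G), t.Prime ∧ t ∣ k ∧ N.Normal ∧ N ≠ ⊥ ∧
      IsPGroup t N ∧ (∀ a ∈ N, ∀ b ∈ N, Commute a b) ∧ (∀ a ∈ N, a ^ t = 1) ∧
      m ∣ Nat.card N - 1 := by
  have hm2 := h.two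
  have hk0 := k_pos h
  have hnt : Nontrivial G := by
    rw [← Finite.one_lt_card_iff_nontrivial, h.card]
    nlinarith
  by_cases hex : ∃ N : Subgroup G, N.Normal ∧ N ≠ ⊥ ∧
      (∀ L : Subgroup G, L.Normal → L ≤ N → L = ⊥ ∨ L = N) ∧ (Nat.card N).Coprime m
  · right
    obtain ⟨N, hNn, hN1, hmin, hcop⟩ := hex
    have hnil := nilpotent_of_coprime h hNn hcop
    have hNnt : Nontrivial N := by
      rw [Subgroup.nontrivial_iff_ne_bot]; exact hN1
    have hcomm : ∀ a ∈ N, ∀ b ∈ N, Commute a b := by
      have hcn : ((center N).map N.subtype).Normal := inferInstance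
      have hle : (center N).map N.subtype ≤ N := by
        rintro _ ⟨z, _, rfl⟩
        exact z.2
      rcases hmin _ hcn hle with hb | hb
      · exfalso
        have h1 := Cfsg.Agent.Lib.NormalAbelian.normal_inf_center_ne_bot (⊤ : Subgroup N) (by
          intro h2
          have h3 := Subgroup.card_top (G := N)
          rw [h2, Subgroup.card_bot] at h3
          exact hN1 (Subgroup.card_eq_one.mp h3.symm))
        rw [top_inf_eq] at h1
        apply h1
        rw [eq_bot_iff]
        intro z hz
        have h2 : (z : G) ∈ (center N).map N.subtype := ⟨z, hz, rfl⟩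
        rw [hb] at h2
        exact Subgroup.mem_bot.mpr (Subtype.ext (Subgroup.mem_bot.mp h2))
      · intro a ha b hb'
        have h1 : a ∈ (center N).map N.subtype := by rw [hb]; exact ha
        obtain ⟨z, hz, rfl⟩ := h1
        have h2 := mem_center_iff.mp hz ⟨b, hb'⟩
        exact (congrArg Subtype.val h2).symm
    obtain ⟨t, ht, hNt, hexp⟩ :=
      Cfsg.Agent.Lib.MinNormalNonabelian.abelian_structure N hN1 hmin hcomm
    have : Fact t.Prime := ⟨ht⟩
    obtain ⟨a, ha⟩ := (IsPGroup.iff_card).mp hNt
    have ha0 : a ≠ 0 := by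
      rintro rfl
      rw [pow_zero] at ha
      exact hN1 (Subgroup.card_eq_one.mp ha)
    have htk : t ∣ k := by
      have h1 : t ∣ Nat.card N := by rw [ha]; exact dvd_pow_self t ha0
      have h2 : t ∣ m * k := by rw [← h.card]; exact h1.trans (card_subgroup_dvd_card N)
      rcases ht.dvd_mul.mp h2 with h3 | h3
      · have h4 := Nat.dvd_gcd h1 h3
        rw [hcop] at h4
        exact absurd (Nat.dvd_one.mp h4) ht.one_lt.ne'
      · exact h3
    refine ⟨t, N, ht, htk, hNn, hN1, hNt, hcomm, hexp, ?_⟩
    have h1 : m ∣ N.index := by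
      have h2 : m ∣ Nat.card N * N.index := by
        rw [N.card_mul_index, h.card]
        exact dvd_mul_right m k
      exact (hcop.symm).dvd_of_dvd_mul_left h2
    have h2 := dvd_of_normal ht N h1 (by
      intro r hr hrm
      refine ⟨?_, h.nonadj r t hr ht hrm htk⟩
      rintro rfl
      have h3 := Nat.dvd_gcd hrm htk
      rw [h.cop] at h3
      exact hr.one_lt.ne' (Nat.dvd_one.mp h3))
    have h3 : t ^ (Nat.card N).factorization t = Nat.card N := by
      rw [ha, ht.factorization_pow, Finsupp.single_eq_same]
    rwa [h3] at h2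
  · left
    push Not at hex
    obtain ⟨N, hNn, hN1, hmin⟩ :=
      Cfsg.Agent.Lib.SubnormalJoin.exists_minimal_normal G
    have htop := eq_top_of_minimal h hn hnm hkn hk hNn hmin (hex N hNn hN1 hmin)
    subst htop
    exact { eq_bot_or_eq_top_of_normal := fun L hL => hmin L hL le_top }

end Cfsg.Agent.H363.IsoHall
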