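import Mathlib
import Cfsg.Agent.H363.PSL2Spec
import Cfsg.Agent.H363.IsoHallMain
import Cfsg.Agent.H363.PslCard
import Cfsg.Agent.H363.AltPrimes
import Cfsg.Agent.H363.ArithThree
import Cfsg.Agent.S0243
import Cfsg.Agent.S1230
import Cfsg.Agent.S0280
import Cfsg.Agent.S0482

/-!
# `PSL₂(q)` by order and spectrum
-/

set_option autoImplicit false

namespace Cfsg.Agent.H363.PSL2Main

open Subgroup Cfsg.Agent.H363.Frat Cfsg.Agent.H363.PSL2Spec Cfsg.Agent.H363.AltPrimes
  Cfsg.Agent.H363.IsoHall

variable {F : Type*} [Field F] [Fintype F]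

/-- Non-adjacency in `PSL₂(q)`. -/
theorem nonAdj_psl {q : ℕ} (hF : Fintype.card F = q) (p : ℕ) [hp : Fact p.Prime] [CharP F p]
    {r s : ℕ} (h1 : ¬ r * s ∣ (q + 1) / Nat.gcd 2 (q - 1))
    (h2 : ¬ r * s ∣ (q - 1) / Nat.gcd 2 (q - 1)) (h3 : ¬ r * s ∣ p) :
    NonAdj (Matrix.ProjectiveSpecialLinearGroup (Fin 2) F) r s := by
  intro g hg
  rcases orderOf_cases hF p g with h | h | h
  · rw [hg] at h; exact h1 h
  · rw [hg] at h; exact h2 h
  · rw [hg] at h; exact h3 h

theorem mul_not_dvd_prime {r s p : ℕ} (hr : r.Prime) (hs : s.Prime) (hp : p.Prime) :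
    ¬ r * s ∣ p := by
  intro h
  rcases (Nat.dvd_prime hp).mp h with h1 | h1
  · have := Nat.eq_one_of_mul_eq_one_right h1
    exact hr.one_lt.ne' this
  · have h2 : r ∣ p := ⟨s, h1.symm⟩
    have h3 := (Nat.prime_dvd_prime_iff_eq hr hp).mp h2
    have h4 := hs.two_le
    have h5 := hr.pos
    subst h3
    nlinarith

/-- Characteristic two. -/
theorem even_case {G : Type*} [Group G] [Finite G] {q : ℕ} (hF : Fintype.card F = q)
    (hq : 3 < q) (heven : Even q)
    (hspec : Set.range (orderOf : G → ℕ) =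
      Set.range (orderOf : Matrix.ProjectiveSpecialLinearGroup (Fin 2) F → ℕ))
    (hcard : Nat.card G = Nat.card (Matrix.ProjectiveSpecialLinearGroup (Fin 2) F)) :
    Nonempty (G ≃* Matrix.ProjectiveSpecialLinearGroup (Fin 2) F) := by
  obtain ⟨p, hchar⟩ := CharP.exists F
  obtain ⟨f, hp, hf⟩ := FiniteField.card F p
  rw [hF] at hf
  have hp2 : p = 2 := by
    rw [hf] at heven
    have h1 : Even p := (Nat.even_pow.mp heven).1
    exact (hp.even_iff).mp h1
  subst hp2
  have : Fact (Nat.Prime 2) := ⟨Nat.prime_two⟩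
  have hgcd : Nat.gcd 2 (q - 1) = 1 := by
    have h1 : ¬ 2 ∣ q - 1 := by
      have := heven.two_dvd
      omega
    exact (Nat.Prime.coprime_iff_not_dvd Nat.prime_two).2 h1
  have hord : Nat.card G = q * (q ^ 2 - 1) := by
    rw [hcard, Cfsg.Agent.SmallSimple.PSLTwoPart.card_psl_two_even (by rw [hF]; exact heven), hF]
  have hq2 : q ^ 2 - 1 = (q + 1) * (q - 1) := by
    obtain ⟨j, rfl⟩ : ∃ j, q = j + 1 := ⟨q - 1, by omega⟩
    rw [Nat.add_sub_cancel]
    have : (j + 1) ^ 2 = (j + 1 + 1) * j + 1 := by ring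
    omega
  have hodd1 : ¬ 2 ∣ q + 1 := by have := heven.two_dvd; omega
  have hodd2 : ¬ 2 ∣ q - 1 := by have := heven.two_dvd; omega
  have hcases : ∀ g : G, orderOf g ∣ q + 1 ∨ orderOf g ∣ q - 1 ∨ orderOf g ∣ 2 := by
    intro g
    have h1 : orderOf g ∈ Set.range (orderOf : Matrix.ProjectiveSpecialLinearGroup (Fin 2) F → ℕ) := by
      rw [← hspec]; exact ⟨g, rfl⟩
    obtain ⟨y, hy⟩ := h1
    have := orderOf_cases hF 2 y
    rwa [hgcd, Nat.div_one, Nat.div_one, hy] at this
  have hadj : ∀ r : ℕ, r.Prime → r ≠ 2 → NonAdj G r 2 := by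
    intro r hr hr2
    intro g hg
    rcases hcases g with h | h | h
    · rw [hg] at h; exact hodd1 ((dvd_mul_left 2 r).trans h)
    · rw [hg] at h; exact hodd2 ((dvd_mul_left 2 r).trans h)
    · rw [hg] at h; exact mul_not_dvd_prime hr Nat.prime_two Nat.prime_two h
  let T : Sylow 2 G := default
  have hTcard : Nat.card T = q := by
    rw [T.card_eq_multiplicity, hord, Nat.factorization_mul (by omega) (by
      rw [hq2]; exact Nat.mul_ne_zero (by omega) (by omega)), Finsupp.add_apply,
      Nat.factorization_eq_zero_of_not_dvd (n := q ^ 2 - 1) (by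
        rw [hq2]
        intro h
        rcases (Nat.prime_two.dvd_mul).mp h with h | h
        · exact hodd1 h
        · exact hodd2 h), Nat.add_zero, hf, Nat.Prime.factorization_pow Nat.prime_two,
      Finsupp.single_eq_same]
  have hnc : ¬ IsCyclic (T : Subgroup G) := by
    intro hc
    obtain ⟨g, hg⟩ := hc.exists_ofOrder_eq_natCard
    have h1 : orderOf (g : G) = q := by rw [Subgroup.orderOf_coe, hg]; exact hTcard
    have h2q : 2 ∣ q := heven.two_dvd
    rcases hcases g with h | h | h
    · rw [h1] at h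
      exact hodd1 (h2q.trans h)
    · rw [h1] at h
      have := Nat.le_of_dvd (by omega) h
      omega
    · rw [h1] at h
      have := Nat.le_of_dvd (by omega) h
      omega
  have hnn : ¬ (T : Subgroup G).Normal := by
    intro hn
    have h1 : q ^ 2 - 1 ∣ (T : Subgroup G).index := by
      have h2 := (T : Subgroup G).card_mul_index
      rw [hord] at h2
      have h3 : Nat.card (T : Subgroup G) = q := hTcard
      rw [h3] at h2
      have h4 := Nat.eq_of_mul_eq_mul_left (by omega) h2
      rw [h4]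
    have h2 := dvd_of_normal Nat.prime_two (T : Subgroup G) h1 (by
      intro r hr hrd
      have hr2 : r ≠ 2 := by
        rintro rfl
        rw [hq2] at hrd
        rcases (Nat.prime_two.dvd_mul).mp hrd with h | h
        · exact hodd1 h
        · exact hodd2 h
      exact ⟨hr2, hadj r hr hr2⟩)
    have h3 : Nat.card (T : Subgroup G) = q := hTcard
    rw [h3, hf, Nat.Prime.factorization_pow Nat.prime_two, Finsupp.single_eq_same, ← hf] at h2
    have h4 := Nat.le_of_dvd (by omega) h2
    rw [hq2] at h4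
    have h5 : 2 * (q - 1) ≤ (q + 1) * (q - 1) := Nat.mul_le_mul_right _ (by omega)
    omega
  have hC : ∀ t : G, orderOf t = 2 → IsMulCommutative (Subgroup.centralizer ({t} : Set G)) ∧
      ∀ c ∈ Subgroup.centralizer ({t} : Set G), c ^ 2 = 1 := by
    intro t ht
    have ht1 : t ≠ 1 := by
      rintro rfl
      rw [orderOf_one] at ht
      omega
    have hsq : ∀ c ∈ Subgroup.centralizer ({t} : Set G), c ^ 2 = 1 := by
      intro c hc
      have hct := mem_centralizer_singleton_iff.mp hc
      -- the order of `c` is a power of two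
      have h2 : ∀ r : ℕ, r.Prime → r ∣ orderOf c → r = 2 := by
        intro r hr hrc
        by_contra hr2
        obtain ⟨i, hi⟩ := hrc
        have hi0 : i ≠ 0 := by
          rintro rfl
          exact (orderOf_pos c).ne' (by simpa using hi)
        have h3 : orderOf (c ^ i) = r := by
          rw [orderOf_pow' c hi0, hi, Nat.gcd_eq_right (Dvd.intro_left _ rfl)]
          exact Nat.mul_div_cancel _ (Nat.pos_of_ne_zero hi0)
        have h4 := eq_one_of_commute hr Nat.prime_two hr2 (hadj r hr hr2) (x := c ^ i) (y := t)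
          ⟨1, by rw [h3, pow_one]⟩ ⟨1, by rw [ht, pow_one]⟩ (Commute.pow_left hct i) ht1
        rw [h4, orderOf_one] at h3
        exact hr.one_lt.ne h3
      by_cases hc1 : c = 1
      · rw [hc1, one_pow]
      have h3 : 2 ∣ orderOf c := by
        obtain ⟨r, hr, hrc⟩ := Nat.exists_prime_and_dvd (fun h => hc1 (orderOf_eq_one_iff.mp h))
        have := h2 r hr hrc
        rwa [this] at hrc
      rcases hcases c with h | h | h
      · exact absurd (h3.trans h) hodd1
      · exact absurd (h3.trans h) hodd2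
      · exact orderOf_dvd_iff_pow_eq_one.mp h
    refine ⟨⟨⟨?_⟩⟩, hsq⟩
    intro a b
    have ha : a * a = 1 := Subtype.ext (by rw [← pow_two]; exact hsq a a.2)
    have hb : b * b = 1 := Subtype.ext (by rw [← pow_two]; exact hsq b b.2)
    have hab : (a * b) * (a * b) = 1 := Subtype.ext (by
      rw [← pow_two]; exact hsq _ (mul_mem a.2 b.2))
    have h5 : a⁻¹ = a := inv_eq_of_mul_eq_one_left ha
    have h6 : b⁻¹ = b := inv_eq_of_mul_eq_one_left hb
    have h7 : (a * b)⁻¹ = a * b := inv_eq_of_mul_eq_one_left hab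
    rw [mul_inv_rev, h5, h6] at h7
    exact h7.symm
  obtain ⟨F', _, _, hF', ⟨e⟩⟩ := Cfsg.Agent.S1230.result T hnc hnn hC
  obtain ⟨e'⟩ := Cfsg.Agent.H363.PslCard.psl_of_card (n := Fin 2) (F := F') (F' := F)
    (by rw [hF', hF]; exact hTcard)
  exact ⟨e.trans e'⟩

/-- A group with an element of order `2^a` and Sylow 2-subgroups of order `2^(a+1)` has 2-rank at
most two. -/
theorem rankLE_two {G : Type*} [Group G] [Finite G] {a : ℕ}
    (hS : (Nat.card G).factorization 2 = a + 1) {y : G} (hy : orderOf y = 2 ^ a) :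
    Cfsg.PRankLE 2 2 G := by
  have : Fact (Nat.Prime 2) := ⟨Nat.prime_two⟩
  intro A _ hA
  have hAp : IsPGroup 2 A := by
    intro g
    refine ⟨1, ?_⟩
    apply Subtype.ext
    rw [pow_one]
    exact hA g g.2
  obtain ⟨S, hAS⟩ := hAp.exists_le_sylow
  have hcS : Nat.card (S : Subgroup G) = 2 ^ (a + 1) := by
    rw [S.card_eq_multiplicity, hS]
  -- a conjugate of `y` in `S`
  have hyp : IsPGroup 2 (zpowers y) := by
    rw [IsPGroup.iff_card]
    exact ⟨a, by rw [Nat.card_zpowers, hy]⟩
  obtain ⟨S', hyS'⟩ := hyp.exists_le_sylow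
  obtain ⟨g, hg⟩ := MulAction.exists_smul_eq G S' S
  set z := g * y * g⁻¹ with hz
  have hzS : zpowers z ≤ (S : Subgroup G) := by
    rw [zpowers_le, ← hg, Sylow.coe_subgroup_smul]
    exact ⟨y, hyS' (mem_zpowers y), rfl⟩
  have hzo : orderOf z = 2 ^ a := by
    rw [← hy, hz]
    have := orderOf_injective (MulAut.conj g : G →* G) (MulAut.conj g).injective y
    rw [← this]
    simp
  set B : Subgroup G := A ⊓ zpowers z with hB
  -- `B` is cyclic of exponent 2
  have hBc : Nat.card B ≤ 2 := by
    have hcyc : IsCyclic B := Subgroup.isCyclic_of_le (inf_le_right : B ≤ zpowers z)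
    obtain ⟨b, hb⟩ := hcyc.exists_ofOrder_eq_natCard
    rw [← hb, ← Subgroup.orderOf_coe]
    apply Nat.le_of_dvd (by norm_num)
    exact orderOf_dvd_of_pow_eq_one (hA b (inf_le_left (a := A) b.2))
  have hidx : (zpowers z).relIndex (S : Subgroup G) = 2 := by
    have h1 := Subgroup.card_mul_index ((zpowers z).subgroupOf (S : Subgroup G))
    rw [Nat.card_congr (subgroupOfEquivOfLe hzS).toEquiv, Nat.card_zpowers, hzo, hcS, pow_succ]
      at h1
    exact Nat.eq_of_mul_eq_mul_left (by positivity) h1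
  have hAB : (zpowers z).relIndex A ≤ 2 := by
    rw [← hidx]
    exact relIndex_le_of_le_right hAS (by rw [hidx]; norm_num)
  have h1 : Nat.card A = Nat.card B * (zpowers z).relIndex A := by
    have h2 := Subgroup.card_mul_index ((zpowers z).subgroupOf A)
    have h3 : (zpowers z).subgroupOf A = B.subgroupOf A := by
      rw [hB, inf_subgroupOf_left]
    rw [← h2]
    congr 1
    rw [h3]
    exact Nat.card_congr (subgroupOfEquivOfLe (inf_le_left : B ≤ A)).toEquiv
  rw [h1]
  calc Nat.card B * (zpowers z).relIndex A ≤ 2 * 2 := Nat.mul_le_mul hBc hAB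
    _ = 2 ^ 2 := by norm_num

/-- Simplicity and 2-rank from the element orders. -/
theorem odd_core {G : Type*} [Group G] [Finite G] {q m e p f : ℕ} (hp : p.Prime) (hf0 : f ≠ 0)
    (hf : q = p ^ f) (hqme : q = m + e) (hme : m = e + 1 ∨ e = m + 1) (hm : Odd m) (he : Even e)
    (hq : 3 < q) (hcard : Nat.card G = m * (2 * e * q))
    (hcases : ∀ g : G, orderOf g ∣ m ∨ orderOf g ∣ e ∨ orderOf g ∣ p)
    (hx : ∃ x : G, orderOf x = m) (hy : ∃ y : G, orderOf y = e) :
    IsSimpleGroup G ∧ Cfsg.PRankLE 2 2 G := by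
  have hpf : Fact p.Prime := ⟨hp⟩
  obtain ⟨i, hi⟩ := hm
  obtain ⟨l, hl⟩ := he
  have hm3 : 3 ≤ m := by omega
  have he2 : 2 ≤ e := by omega
  have hqodd : ¬ 2 ∣ q := by omega
  have hp2 : p ≠ 2 := by
    rintro rfl
    exact hqodd (hf ▸ dvd_pow_self 2 hf0)
  have hpq : p ∣ q := hf ▸ dvd_pow_self p hf0
  have hcop_me : m.Coprime e := by
    rcases hme with h | h
    · rw [h]; simp
    · rw [h]; simp
  have hcop_mq : m.Coprime q := by
    rw [hqme, Nat.coprime_self_add_right]
    exact hcop_me
  have hcop_eq : e.Coprime q := by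
    rw [hqme, Nat.coprime_add_self_right]
    exact hcop_me.symm
  have hpm : ¬ p ∣ m := fun h => by
    have := Nat.dvd_gcd h hpq
    rw [hcop_mq] at this
    exact hp.one_lt.ne' (Nat.dvd_one.mp this)
  have hpe : ¬ p ∣ e := fun h => by
    have := Nat.dvd_gcd h hpq
    rw [hcop_eq] at this
    exact hp.one_lt.ne' (Nat.dvd_one.mp this)
  have hno : ∀ r, r.Prime → r ∣ m → ¬ r ∣ e := fun r hr h1 h2 => by
    have := Nat.dvd_gcd h1 h2
    rw [hcop_me] at this
    exact hr.one_lt.ne' (Nat.dvd_one.mp this)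
  -- adjacency
  have hadj : ∀ r s : ℕ, r.Prime → s.Prime → ¬ (r ∣ m ∧ s ∣ m) → ¬ (r ∣ e ∧ s ∣ e) →
      NonAdj G r s := by
    intro r s hr hs h1 h2 g hg
    rcases hcases g with h | h | h
    · rw [hg] at h
      exact h1 ⟨(dvd_mul_right r s).trans h, (dvd_mul_left s r).trans h⟩
    · rw [hg] at h
      exact h2 ⟨(dvd_mul_right r s).trans h, (dvd_mul_left s r).trans h⟩
    · rw [hg] at h
      exact mul_not_dvd_prime hr hs hp h
  have hprimes : ∀ s, s.Prime → s ∣ 2 * e * q → s = p ∨ s ∣ e := by
    intro s hs h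
    rcases (hs.dvd_mul).mp h with h1 | h1
    · right
      rcases (hs.dvd_mul).mp h1 with h2 | h2
      · exact h2.trans ⟨l, by omega⟩
      · exact h2
    · left
      rw [hf] at h1
      exact (Nat.prime_dvd_prime_iff_eq hs hp).mp (hs.dvd_of_dvd_pow h1)
  obtain ⟨x, hx⟩ := hx
  have hyp : IsoHall.Hyp G m (2 * e * q) x :=
    { ord := hx
      card := hcard
      cop := by
        apply Nat.Coprime.mul_right _ hcop_mq
        apply Nat.Coprime.mul_right _ hcop_me
        rw [Nat.coprime_comm]
        exact (Nat.Prime.coprime_iff_not_dvd Nat.prime_two).2 (by omega)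
      two := by omega
      nonadj := by
        intro r s hr hs hrm hsk
        apply hadj r s hr hs
        · rintro ⟨-, hsm⟩
          rcases hprimes s hs hsk with h | h
          · subst h; exact hpm hsm
          · exact hno s hs hsm h
        · rintro ⟨hre, -⟩
          exact hno r hr hrm hre }
  have hmod : 2 * e * q ≡ 2 [MOD m] := by
    rcases hme with h | h
    · -- `e = m - 1`, `q = 2 m - 1`
      subst h
      have : 2 * e * q = 2 + (e + 1) * (2 * (2 * e - 1)) := by
        rw [hqme]
        obtain ⟨t, rfl⟩ : ∃ t, e = t + 1 := ⟨e - 1, by omega⟩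
        have : 2 * (t + 1) - 1 = 2 * t + 1 := by omega
        rw [this]
        ring
      rw [this]
      simp [Nat.ModEq]
    · subst h
      have : 2 * (m + 1) * q = 2 + m * (4 * m + 6) := by
        rw [hqme]; ring
      rw [this]
      simp [Nat.ModEq]
  have hk2 : 2 < 2 * e * q := by nlinarith
  refine ⟨?_, ?_⟩
  · rcases simple_or hyp Nat.prime_two (by omega) hmod hk2 with h | ⟨t, N, ht, htk, hNn, hN1, hNt, -, -, hmN⟩
    · exact h
    · exfalso
      obtain ⟨a, ha⟩ := (haveI : Fact t.Prime := ⟨ht⟩; IsPGroup.iff_card.mp hNt)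
      have ha0 : a ≠ 0 := by
        rintro rfl
        rw [pow_zero] at ha
        exact hN1 (Subgroup.card_eq_one.mp ha)
      have hfac : (Nat.card N).factorization t = a := by
        rw [ha, ht.factorization_pow, Finsupp.single_eq_same]
      have hcards := N.card_mul_index
      have hN2 : 2 ≤ Nat.card N := by
        rw [ha]
        calc 2 ≤ t := ht.two_le
          _ = t ^ 1 := (pow_one t).symm
          _ ≤ t ^ a := Nat.pow_le_pow_right ht.pos (Nat.pos_of_ne_zero ha0)
      rcases hprimes t ht htk with h | h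
      · -- `t = p`
        subst h
        have hdvd : Nat.card N ∣ q := by
          have h1 : Nat.card N ∣ m * (2 * e * q) := by
            rw [← hcard]; exact card_subgroup_dvd_card N
          have h2 : (Nat.card N).Coprime (m * (2 * e)) := by
            rw [ha]
            apply Nat.Coprime.pow_left
            rw [Nat.Prime.coprime_iff_not_dvd hp]
            intro h3
            rcases (hp.dvd_mul).mp h3 with h4 | h4
            · exact hpm h4
            · rcases (hp.dvd_mul).mp h4 with h5 | h5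
              · exact hp2 ((Nat.prime_dvd_prime_iff_eq hp Nat.prime_two).mp h5)
              · exact hpe h5
          have h3 : m * (2 * e * q) = (m * (2 * e)) * q := by ring
          rw [h3] at h1
          exact h2.dvd_of_dvd_mul_left h1
        have hidx : m * e ∣ N.index := by
          have h1 : m * e ∣ Nat.card N * N.index := by
            rw [hcards, hcard]
            exact ⟨2 * q, by ring⟩
          have h2 : (m * e).Coprime (Nat.card N) := by
            rw [ha]
            apply Nat.Coprime.pow_right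
            rw [Nat.coprime_comm, Nat.Prime.coprime_iff_not_dvd hp]
            intro h3
            rcases (hp.dvd_mul).mp h3 with h4 | h4
            · exact hpm h4
            · exact hpe h4
          exact h2.dvd_of_dvd_mul_left h1
        have h1 := dvd_of_normal hp N hidx (by
          intro r hr hrd
          have hrp : r ≠ t := by
            rintro rfl
            rcases (hp.dvd_mul).mp hrd with h4 | h4
            · exact hpm h4
            · exact hpe h4
          exact ⟨hrp, hadj r t hr hp (fun h => hpm h.2) (fun h => hpe h.2)⟩)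
        rw [hfac, ← ha] at h1
        have h2 := Nat.le_of_dvd (by omega) h1
        have h3 := Nat.le_of_dvd (by omega) hdvd
        have h4 : 3 * e ≤ m * e := Nat.mul_le_mul_right e hm3
        omega
      · -- `t ∣ e`
        have htm : ¬ t ∣ m := fun h' => hno t ht h' h
        have htp : t ≠ p := by
          rintro rfl; exact hpe h
        have htq : ¬ t ∣ q := by
          intro h'
          rw [hf] at h'
          exact htp ((Nat.prime_dvd_prime_iff_eq ht hp).mp (ht.dvd_of_dvd_pow h'))
        have hcopN : (Nat.card N).Coprime (m * q) := by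
          rw [ha]
          apply Nat.Coprime.pow_left
          rw [Nat.Prime.coprime_iff_not_dvd ht]
          intro h3
          rcases (ht.dvd_mul).mp h3 with h4 | h4
          · exact htm h4
          · exact htq h4
        have hdvd : Nat.card N ∣ 2 * e := by
          have h1 : Nat.card N ∣ m * (2 * e * q) := by
            rw [← hcard]; exact card_subgroup_dvd_card N
          have h3 : m * (2 * e * q) = (m * q) * (2 * e) := by ring
          rw [h3] at h1
          exact hcopN.dvd_of_dvd_mul_left h1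
        have hidx : m * q ∣ N.index := by
          have h1 : m * q ∣ Nat.card N * N.index := by
            rw [hcards, hcard]
            exact ⟨2 * e, by ring⟩
          exact hcopN.symm.dvd_of_dvd_mul_left h1
        have h1 := dvd_of_normal ht N hidx (by
          intro r hr hrd
          have hre : ¬ r ∣ e := by
            rcases (hr.dvd_mul).mp hrd with h4 | h4
            · exact hno r hr h4
            · rw [hf] at h4
              have := (Nat.prime_dvd_prime_iff_eq hr hp).mp (hr.dvd_of_dvd_pow h4)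
              rw [this]; exact hpe
          refine ⟨?_, hadj r t hr ht (fun h' => htm h'.2) (fun h' => hre h'.1)⟩
          rintro rfl
          exact hre h)
        rw [hfac, ← ha] at h1
        have h2 := Nat.le_of_dvd (by omega) h1
        have h3 := Nat.le_of_dvd (by omega) hdvd
        have h4 : 3 * q ≤ m * q := Nat.mul_le_mul_right q hm3
        omega
  · obtain ⟨y, hy⟩ := hy
    obtain ⟨a, b, hb, hab⟩ := Nat.exists_eq_two_pow_mul_odd (n := e) (by omega)
    have hb0 : b ≠ 0 := by
      rintro rfl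
      exact absurd hb (by decide)
    have hbodd : ¬ 2 ∣ b := by
      rw [← even_iff_two_dvd, Nat.not_even_iff_odd]; exact hb
    apply rankLE_two (a := a) (y := y ^ b)
    · have hmodd : ¬ 2 ∣ m := by omega
      have h2pow : e.factorization 2 = a := by
        rw [hab, Nat.factorization_mul (by positivity) hb0, Finsupp.add_apply,
          Nat.factorization_eq_zero_of_not_dvd hbodd, Nat.Prime.factorization_pow Nat.prime_two,
          Finsupp.single_eq_same, Nat.add_zero]
      rw [hcard, Nat.factorization_mul (by omega) (by positivity), Finsupp.add_apply,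
        Nat.factorization_mul (by positivity) (by omega), Finsupp.add_apply,
        Nat.factorization_mul (by norm_num) (by omega), Finsupp.add_apply,
        Nat.factorization_eq_zero_of_not_dvd hmodd, Nat.factorization_eq_zero_of_not_dvd hqodd,
        h2pow, Nat.Prime.factorization_self Nat.prime_two]
      omega
    · rw [orderOf_pow' y hb0, hy, hab, Nat.gcd_eq_right (Dvd.intro_left _ rfl)]
      exact Nat.mul_div_cancel _ (Nat.pos_of_ne_zero hb0)

theorem card_psl_three {F' : Type*} [Field F'] [Fintype F'] :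
    Nat.gcd 3 (Fintype.card F' - 1) *
      Nat.card (Matrix.ProjectiveSpecialLinearGroup (Fin 3) F') =
      Fintype.card F' ^ 3 * ((Fintype.card F' ^ 2 - 1) * (Fintype.card F' ^ 3 - 1)) := by
  have h1 := Cfsg.Agent.S0243.result (F := F') rfl 3 (by norm_num)
  rw [Fin.prod_univ_three] at h1
  have hq : 1 < Fintype.card F' := Fintype.one_lt_card
  generalize Nat.card (Matrix.ProjectiveSpecialLinearGroup (Fin 3) F') = N at h1 ⊢
  generalize Fintype.card F' = q at h1 hq ⊢
  generalize Nat.gcd 3 (q - 1) = d at h1 ⊢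
  have e1 : q ^ 3 - q ^ ((0 : Fin 3) : ℕ) = q ^ 3 - 1 := by simp
  have e2 : q ^ 3 - q ^ ((1 : Fin 3) : ℕ) = q * (q ^ 2 - 1) := by
    simp only [Fin.val_one, pow_one]
    rw [Nat.mul_sub, mul_one]
    congr 1
    ring
  have e3 : q ^ 3 - q ^ ((2 : Fin 3) : ℕ) = q ^ 2 * (q - 1) := by
    have : ((2 : Fin 3) : ℕ) = 2 := rfl
    rw [this, Nat.mul_sub, mul_one]
    congr 1
  rw [e1, e2, e3] at h1
  have h2 : (q - 1) * (d * N) = (q - 1) * (q ^ 3 * ((q ^ 2 - 1) * (q ^ 3 - 1))) := by
    calc (q - 1) * (d * N) = d * ((q - 1) * N) := by ring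
      _ = _ := h1
      _ = _ := by ring
  exact Nat.eq_of_mul_eq_mul_left (by omega) h2

theorem card_psu_three {F' : Type*} [Field F'] [Fintype F'] {a : ℕ}
    (hF : Fintype.card F' = a ^ 2) :
    Nat.gcd 3 (a + 1) * Nat.card (Cfsg.PSU 3 F' a) = a ^ 3 * ((a ^ 2 - 1) * (a ^ 3 + 1)) := by
  have h1 := Cfsg.Agent.S0280.result hF 3 (by norm_num)
  rw [Finset.prod_range_succ, Finset.prod_range_succ, Finset.prod_range_succ,
    Finset.prod_range_zero] at h1
  generalize Nat.card (Cfsg.PSU 3 F' a) = N at h1 ⊢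
  generalize Nat.gcd 3 (a + 1) = d at h1 ⊢
  have h2 : (a + 1) * (d * N) = (a + 1) * (a ^ 3 * ((a ^ 2 - 1) * (a ^ 3 + 1))) := by
    calc (a + 1) * (d * N) = d * ((a + 1) * N) := by ring
      _ = _ := h1
      _ = _ := by simp; ring
  exact Nat.eq_of_mul_eq_mul_left (by omega) h2

theorem mul_sq_inj {a b : ℕ} (ha : 1 ≤ a) (hb : 1 ≤ b)
    (h : a * (a ^ 2 - 1) = b * (b ^ 2 - 1)) : a = b := by
  have key : ∀ c d : ℕ, 1 ≤ c → c < d → c * (c ^ 2 - 1) < d * (d ^ 2 - 1) := by
    intro c d hc hcd
    have h1 : c ^ 2 - 1 ≤ d ^ 2 - 1 := Nat.sub_le_sub_right (Nat.pow_le_pow_left hcd.le 2) 1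
    have h2 : 0 < d ^ 2 - 1 := by
      have : 2 ^ 2 ≤ d ^ 2 := Nat.pow_le_pow_left (by omega) 2
      omega
    calc c * (c ^ 2 - 1) ≤ c * (d ^ 2 - 1) := Nat.mul_le_mul_left _ h1
      _ < d * (d ^ 2 - 1) := Nat.mul_lt_mul_of_pos_right hcd h2
  rcases lt_trichotomy a b with h1 | h1 | h1
  · exact absurd h (key a b ha h1).ne
  · exact h1
  · exact absurd h (key b a hb h1).ne'

/-- Odd characteristic. -/
theorem odd_case {G : Type*} [Group G] [Finite G] {q : ℕ} (hF : Fintype.card F = q)
    (hq : 3 < q) (hodd : Odd q)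
    (hspec : Set.range (orderOf : G → ℕ) =
      Set.range (orderOf : Matrix.ProjectiveSpecialLinearGroup (Fin 2) F → ℕ))
    (hcard : Nat.card G = Nat.card (Matrix.ProjectiveSpecialLinearGroup (Fin 2) F)) :
    Nonempty (G ≃* Matrix.ProjectiveSpecialLinearGroup (Fin 2) F) := by
  obtain ⟨p, hchar⟩ := CharP.exists F
  obtain ⟨f, hp, hf⟩ := FiniteField.card F p
  rw [hF] at hf
  have hpf : Fact p.Prime := ⟨hp⟩
  have hp2 : p ≠ 2 := by
    rintro rfl
    have h1 : 2 ∣ q := hf ▸ dvd_pow_self 2 f.ne_zero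
    have := hodd.not_two_dvd_nat
    exact this h1
  have hgcd : Nat.gcd 2 (q - 1) = 2 := by
    apply Nat.gcd_eq_left
    obtain ⟨j, hj⟩ := hodd
    exact ⟨j, by omega⟩
  have hord : 2 * Nat.card G = q * (q ^ 2 - 1) := by
    rw [hcard, Cfsg.Agent.SmallSimple.PSLTwoPart.card_psl_two_odd (by rw [hF]; exact hodd), hF]
  obtain ⟨j, hj⟩ := hodd
  have hc1 : (q + 1) / 2 = j + 1 := by omega
  have hc2 : (q - 1) / 2 = j := by omega
  have hcases : ∀ g : G, orderOf g ∣ j + 1 ∨ orderOf g ∣ j ∨ orderOf g ∣ p := by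
    intro g
    have h1 : orderOf g ∈ Set.range (orderOf : Matrix.ProjectiveSpecialLinearGroup (Fin 2) F → ℕ) := by
      rw [← hspec]; exact ⟨g, rfl⟩
    obtain ⟨y, hy⟩ := h1
    have := orderOf_cases hF p y
    rwa [hgcd, hc1, hc2, hy] at this
  have hx1 : ∃ x : G, orderOf x = j + 1 := by
    obtain ⟨y, hy⟩ := exists_nonsplit hF
    rw [hgcd, hc1] at hy
    have h1 : orderOf y ∈ Set.range (orderOf : G → ℕ) := by rw [hspec]; exact ⟨y, rfl⟩
    obtain ⟨x, hx⟩ := h1
    exact ⟨x, by rw [hx, hy]⟩
  have hx2 : ∃ x : G, orderOf x = j := by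
    obtain ⟨y, hy⟩ := exists_split hF
    rw [hgcd, hc2] at hy
    have h1 : orderOf y ∈ Set.range (orderOf : G → ℕ) := by rw [hspec]; exact ⟨y, rfl⟩
    obtain ⟨x, hx⟩ := h1
    exact ⟨x, by rw [hx, hy]⟩
  have hcardG : Nat.card G = (j + 1) * (j * 2 * q) := by
    have h1 : q ^ 2 - 1 = 2 * (2 * (j * (j + 1))) := by
      have : q ^ 2 = 2 * (2 * (j * (j + 1))) + 1 := by rw [hj]; ring
      omega
    rw [h1] at hord
    have h2 : 2 * Nat.card G = 2 * ((j + 1) * (j * 2 * q)) := by rw [hord]; ring
    omega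
  have hcore : IsSimpleGroup G ∧ Cfsg.PRankLE 2 2 G := by
    rcases Nat.even_or_odd j with he | ho
    · refine odd_core (m := j + 1) (e := j) hp f.ne_zero hf (by omega) (Or.inl rfl) he.add_one he hq
        ?_ hcases hx1 hx2
      rw [hcardG]; ring
    · refine odd_core (m := j) (e := j + 1) hp f.ne_zero hf (by omega) (Or.inr rfl) ho ho.add_one hq
        ?_ (fun g => ?_) hx2 hx1
      · rw [hcardG]; ring
      · rcases hcases g with h | h | h
        · exact Or.inr (Or.inl h)
        · exact Or.inl h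
        · exact Or.inr (Or.inr h)
  obtain ⟨hsimple, hrank⟩ := hcore
  have hj2 : 2 ≤ j := by omega
  have hna : ¬ IsMulCommutative G := by
    intro h
    letI : CommGroup G := { (inferInstance : Group G) with mul_comm := h.is_comm.comm }
    have h1 : (Nat.card G).Prime := IsSimpleGroup.prime_card
    rw [hcardG] at h1
    have h2 := h1.eq_one_or_self_of_dvd (j + 1) (dvd_mul_right _ _)
    rcases h2 with h2 | h2
    · omega
    · have : (j + 1) * 1 < (j + 1) * (j * 2 * q) :=
        Nat.mul_lt_mul_of_pos_left (by nlinarith) (by omega)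
      omega
  have hno : ∀ N : ℕ, 2 * N ≠ q * (q ^ 2 - 1) → Nat.card G ≠ N := by
    intro N hN h
    apply hN
    rw [← hord, h]
  have hqj : q * (q ^ 2 - 1) = (2 * j + 1) * (4 * (j * (j + 1))) := by
    have : q ^ 2 = 4 * (j * (j + 1)) + 1 := by rw [hj]; ring
    rw [this, Nat.add_sub_cancel, hj]
  have hsmall : ∀ B : ℕ, 2 * Nat.card G < B ^ 3 → 2 * j < B := by
    intro B hB
    by_contra hcon
    have h1 : B ^ 3 ≤ (2 * j) ^ 3 := Nat.pow_le_pow_left (by omega) 3
    rw [hord, hqj] at hB
    nlinarith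
  rcases Cfsg.Agent.S0482.result hna hrank with ⟨F', i1, i2, ho, h5, ⟨e⟩⟩ |
    ⟨F', i1, i2, ho, ⟨e⟩⟩ | ⟨F', i1, i2, a, ha, hao, ⟨e⟩⟩ | ⟨F', i1, i2, h16, ⟨e⟩⟩ | ⟨⟨e⟩⟩ | h
  · have h1 := Cfsg.Agent.SmallSimple.PSLTwoPart.card_psl_two_odd ho
    have h2 : Nat.card G = Nat.card (Matrix.ProjectiveSpecialLinearGroup (Fin 2) F') :=
      Nat.card_congr e.toEquiv
    rw [← h2, hord] at h1
    have h3 : Fintype.card F' = Fintype.card F := by
      rw [hF]
      exact (mul_sq_inj (by omega) (by omega) h1).symm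
    obtain ⟨e'⟩ := Cfsg.Agent.H363.PslCard.psl_of_card (n := Fin 2) (F := F') (F' := F) h3
    exact ⟨e.trans e'⟩
  · exfalso
    have h1 := card_psl_three (F' := F')
    have h2 : Nat.card G = Nat.card (Matrix.ProjectiveSpecialLinearGroup (Fin 3) F') :=
      Nat.card_congr e.toEquiv
    rw [← h2] at h1
    obtain ⟨r, hchar'⟩ := CharP.exists F'
    obtain ⟨s, hr, hs⟩ := FiniteField.card F' r
    have hr2 : r ≠ 2 := by
      rintro rfl
      have h1 : 2 ∣ Fintype.card F' := hs ▸ dvd_pow_self 2 s.ne_zero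
      exact ho.not_two_dvd_nat h1
    refine Cfsg.Agent.H363.ArithThree.not_psl hp hp2 hr hr2 hf hs s.ne_zero f.ne_zero ?_
    rw [← hord, ← h1]
    ring
  · exfalso
    have h1 := card_psu_three ha
    have h2 : Nat.card G = Nat.card (Cfsg.PSU 3 F' a) := Nat.card_congr e.toEquiv
    rw [← h2] at h1
    obtain ⟨r, hchar'⟩ := CharP.exists F'
    obtain ⟨s, hr, hs⟩ := FiniteField.card F' r
    have hr2 : r ≠ 2 := by
      rintro rfl
      have h1 : 2 ∣ a ^ 2 := by rw [← ha]; exact hs ▸ dvd_pow_self 2 s.ne_zero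
      exact hao.not_two_dvd_nat (Nat.prime_two.dvd_of_dvd_pow h1)
    have h3 : ∃ t, a = r ^ t := by
      have h4 : a ∣ r ^ (s : ℕ) := by
        rw [← hs, ha]; exact dvd_pow_self a two_ne_zero
      obtain ⟨t, -, ht⟩ := (Nat.dvd_prime_pow hr).mp h4
      exact ⟨t, ht⟩
    obtain ⟨t, ht⟩ := h3
    have ht0 : t ≠ 0 := by
      rintro rfl
      rw [pow_zero] at ht
      have : 1 < Fintype.card F' := Fintype.one_lt_card
      rw [ha, ht] at this
      omega
    refine Cfsg.Agent.H363.ArithThree.not_psu hp hp2 hr hr2 hf ht ht0 f.ne_zero ?_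
    rw [← hord, ← h1]
    ring
  · exfalso
    have h1 := card_psu_three (a := 4) (by rw [h16]; norm_num)
    have h2 : Nat.card G = Nat.card (Cfsg.PSU 3 F' 4) := Nat.card_congr e.toEquiv
    rw [← h2] at h1
    have h3 : Nat.card G = 62400 := by
      have : Nat.gcd 3 (4 + 1) = 1 := by decide
      rw [this] at h1
      omega
    have h4 := hsmall 50 (by rw [h3]; norm_num)
    have h5 : 2 * 62400 = (2 * j + 1) * (4 * (j * (j + 1))) := by rw [← hqj, ← hord, h3]
    have h6 : j < 25 := by omega
    interval_cases j <;> omega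
  · exfalso
    have h2 : Nat.card G = Nat.card (alternatingGroup (Fin 7)) := Nat.card_congr e.toEquiv
    have h3 : Nat.card G = 2520 := by
      rw [h2]
      have h4 := two_mul_nat_card_alternatingGroup (α := Fin 7)
      rw [Nat.card_perm, Nat.card_fin] at h4
      have : Nat.factorial 7 = 5040 := by decide
      omega
    have h4 := hsmall 18 (by rw [h3]; norm_num)
    have h5 : 2 * 2520 = (2 * j + 1) * (4 * (j * (j + 1))) := by rw [← hqj, ← hord, h3]
    have h6 : j < 9 := by omega
    interval_cases j <;> omega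
  · exfalso
    have h3 : Nat.card G = 7920 := h.2
    have h4 := hsmall 26 (by rw [h3]; norm_num)
    have h5 : 2 * 7920 = (2 * j + 1) * (4 * (j * (j + 1))) := by rw [← hqj, ← hord, h3]
    have h6 : j < 13 := by omega
    interval_cases j <;> omega

end Cfsg.Agent.H363.PSL2Main
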