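import Mathlib
import Cfsg.Agent.H363.IsoHallMain
import Cfsg.Agent.H363.Master
import Cfsg.Agent.H363.PslHyp
import Cfsg.Agent.OrdDiv.Main

/-!
# `PSL_4(2)`, `PSL_5(2)`, `PSL_6(2)`, `PSL_7(2)` by order and spectrum: simplicity
-/

set_option autoImplicit false

namespace Cfsg.Agent.H363.PslIso

open Cfsg Cfsg.Agent.H902 Cfsg.Agent.H363.Frat Cfsg.Agent.H363.Master Cfsg.Agent.H363.PslGen
open Cfsg.Agent.Lib.Zsigmondy

universe u

/-- the isolated subgroup of prime order -/
theorem isoHyp {G : Type u} [Group G] [Finite G] {l k : ℕ} (hl : l.Prime) (hcard : Nat.card G = l * k)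
    (hc : ¬ l ∣ k) (hd : ∀ s : ℕ, s.Prime → s ∣ k → NonAdj G l s) : ∃ x, IsoHall.Hyp G l k x := by
  have : Fact l.Prime := ⟨hl⟩
  obtain ⟨x, hx⟩ := exists_prime_orderOf_dvd_card' (G := G) l (by rw [hcard]; exact dvd_mul_right _ _)
  refine ⟨x, ⟨hx, hcard, (Nat.Prime.coprime_iff_not_dvd hl).mpr hc, hl.two_le, ?_⟩⟩
  intro r s hr hs hrl hsk
  rw [(Nat.prime_dvd_prime_iff_eq hr hl).mp hrl]
  exact hd s hs hsk

/-- simple, or with a normal elementary abelian subgroup -/
theorem simple_or {G : Type u} [Group G] [Finite G] {l k n : ℕ} (hl : l.Prime) (hcard : Nat.card G = l * k)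
    (hc : ¬ l ∣ k) (hd : ∀ s : ℕ, s.Prime → s ∣ k → NonAdj G l s) (hn : n.Prime) (hnl : n < l)
    (hkn : k % l = n) (hnk : n < k) :
    IsSimpleGroup G ∨ ∃ (t a : ℕ) (N : Subgroup G), t.Prime ∧ t ∣ k ∧ N.Normal ∧ 1 ≤ a ∧
      Nat.card N = t ^ a ∧ t ^ a ∣ k ∧ l ∣ t ^ a - 1 := by
  obtain ⟨x, hx⟩ := isoHyp hl hcard hc hd
  rcases IsoHall.simple_or hx hn hnl (by rw [Nat.ModEq, hkn, Nat.mod_eq_of_lt hnl]) hnk with h | h
  · exact Or.inl h
  · obtain ⟨t, N, ht, htk, hNn, hN1, hNt, -, -, hlN⟩ := h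
    right
    have : Fact t.Prime := ⟨ht⟩
    obtain ⟨a, ha⟩ := hNt.exists_card_eq
    rw [ha] at hlN
    have ha1 : 1 ≤ a := by
      rw [Nat.one_le_iff_ne_zero]
      rintro rfl
      rw [pow_zero] at ha
      exact hN1 (Subgroup.card_eq_one.mp ha)
    refine ⟨t, a, N, ht, htk, hNn, ha1, ha, ?_, hlN⟩
    have h1 : t ^ a ∣ l * k := by rw [← hcard, ← ha]; exact Subgroup.card_subgroup_dvd_card N
    refine Nat.Coprime.dvd_of_dvd_mul_left ?_ h1
    apply Nat.Coprime.pow_left
    rw [Nat.Prime.coprime_iff_not_dvd ht]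
    intro h2
    have h3 := (Nat.prime_dvd_prime_iff_eq ht hl).mp h2
    rw [h3] at htk
    exact hc htk

theorem nonadj_of_dvd {G : Type u} [Group G] {l : ℕ} (hl : l.Prime) (h : ∀ x : G, l ∣ orderOf x → orderOf x ∣ l)
    {s : ℕ} (hs : s.Prime) : NonAdj G l s := by
  intro g hg
  have h1 := h g (by rw [hg]; exact dvd_mul_right _ _)
  rw [hg] at h1
  have h2 : l * s ≤ l * 1 := by rw [mul_one]; exact Nat.le_of_dvd hl.pos h1
  have h3 := Nat.le_of_mul_le_mul_left h2 hl.pos
  have := hs.two_le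
  omega

theorem pow_le_of_dvd_mul {t a b c : ℕ} (ht : t.Prime) (h : t ^ a ∣ t ^ b * c) (hc : ¬ t ∣ c) : a ≤ b := by
  have h1 : t ^ a ∣ t ^ b := Nat.Coprime.dvd_of_dvd_mul_right
    (Nat.Coprime.pow_left _ ((Nat.Prime.coprime_iff_not_dvd ht).mpr hc)) h
  exact (Nat.pow_dvd_pow_iff_le_right ht.one_lt).mp h1

/-- an element of order nine and none of order eighteen -/
def Nine (G : Type u) [Group G] : Prop := (∃ x : G, orderOf x = 9) ∧ ∀ x : G, ¬ 18 ∣ orderOf x

theorem Nine.mod {G : Type u} [Group G] [Finite G] (h : Nine G) (N : Subgroup G) [N.Normal] {a : ℕ}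
    (hN : Nat.card N = 2 ^ a) : 3 ∣ 2 ^ a - 1 := by
  obtain ⟨⟨x, hx⟩, h18⟩ := h
  have : Fact (Nat.Prime 3) := ⟨Nat.prime_three⟩
  have hp : IsPGroup 3 (Subgroup.zpowers x) := by
    apply IsPGroup.of_card (n := 2)
    rw [Nat.card_zpowers, hx]; norm_num
  let _act : MulAction (Subgroup.zpowers x) N :=
    MulAction.compHom N ((MulAut.conjNormal : G →* MulAut N).comp (Subgroup.zpowers x).subtype)
  have hact : ∀ (g : Subgroup.zpowers x) (n : N), ((g • n : N) : G) = g * n * (g : G)⁻¹ := by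
    intro g n
    exact MulAut.conjNormal_apply (g : G) n
  have h1 := hp.card_modEq_card_fixedPoints N
  have h2 : MulAction.fixedPoints (Subgroup.zpowers x) N = {1} := by
    ext n
    rw [Set.mem_singleton_iff]
    constructor
    · intro hn
      have h3 := hact ⟨x, Subgroup.mem_zpowers x⟩ n
      rw [hn ⟨x, Subgroup.mem_zpowers x⟩] at h3
      have h4 : Commute x n := by
        have h5 : (n : G) = x * n * x⁻¹ := h3
        rw [commute_iff_eq]
        calc x * n = (x * n * x⁻¹) * x := by group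
          _ = n * x := by rw [← h5]
      by_contra hn1
      have ho : orderOf (n : G) ∣ 2 ^ a := by
        rw [Subgroup.orderOf_coe, ← hN]; exact orderOf_dvd_natCard n
      obtain ⟨j, -, hj⟩ := (Nat.dvd_prime_pow Nat.prime_two).mp ho
      have hj0 : j ≠ 0 := by
        rintro rfl
        rw [pow_zero, orderOf_eq_one_iff] at hj
        exact hn1 (Subtype.ext hj)
      have hco : (orderOf x).Coprime (orderOf (n : G)) := by
        rw [hx, hj]
        exact Nat.Coprime.pow_right _ (by norm_num)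
      have h6 := h4.orderOf_mul_eq_mul_orderOf_of_coprime hco
      apply h18 (x * n)
      rw [h6, hx, hj]
      exact Nat.mul_dvd_mul (dvd_refl 9) (dvd_pow_self 2 hj0)
    · rintro rfl g
      apply Subtype.ext
      rw [hact]
      simp
  rw [h2, hN, Nat.card_unique] at h1
  exact (Nat.modEq_iff_dvd' (Nat.one_le_pow _ _ (by norm_num))).mp h1.symm

theorem Nine.quotient {G : Type u} [Group G] [Finite G] (h : Nine G) (N : Subgroup G) [N.Normal]
    (hN : ¬ 3 ∣ Nat.card N) : Nine (G ⧸ N) := by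
  obtain ⟨⟨x, hx⟩, h18⟩ := h
  refine ⟨⟨QuotientGroup.mk' N x, ?_⟩, ?_⟩
  · have h1 : orderOf (QuotientGroup.mk' N x) ∣ 3 ^ 2 := by
      have := orderOf_map_dvd (QuotientGroup.mk' N) x
      rw [hx] at this
      exact this
    obtain ⟨j, hj, hj2⟩ := (Nat.dvd_prime_pow Nat.prime_three).mp h1
    rw [hj2]
    rcases (by omega : j = 2 ∨ j ≤ 1) with rfl | hj1
    · norm_num
    · exfalso
      have h3 : (QuotientGroup.mk' N x) ^ 3 = 1 := by
        rw [← orderOf_dvd_iff_pow_eq_one, hj2]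
        exact (pow_dvd_pow 3 hj1)
      rw [← map_pow] at h3
      have h4 : x ^ 3 ∈ N := (QuotientGroup.eq_one_iff _).mp h3
      have h5 : orderOf (x ^ 3) = 3 := by
        rw [orderOf_pow' x (by norm_num), hx]
        norm_num
      apply hN
      have h6 := orderOf_dvd_natCard (⟨x ^ 3, h4⟩ : N)
      rwa [Subgroup.orderOf_mk, h5] at h6
  · intro y hy
    obtain ⟨z, rfl⟩ := QuotientGroup.mk'_surjective N y
    exact h18 z (hy.trans (orderOf_map_dvd _ _))

/-! ### the orders -/

theorem card_of_real {p f n M c : ℕ} (h : Art.Real (.L n) p f M) (hc : Nat.gcd n (p ^ f - 1) * c =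
    (p ^ f) ^ (n * (n - 1) / 2) * ∏ i ∈ Finset.range (n - 1), ((p ^ f) ^ (i + 2) - 1))
    (hg : 0 < Nat.gcd n (p ^ f - 1)) : M = c := by
  have h1 : Nat.gcd n (p ^ f - 1) * M =
      (p ^ f) ^ (n * (n - 1) / 2) * ∏ i ∈ Finset.range (n - 1), ((p ^ f) ^ (i + 2) - 1) := h.eq
  rw [← hc] at h1
  exact Nat.eq_of_mul_eq_mul_left hg h1

theorem card42 {M : ℕ} (h : Art.Real (.L 4) 2 1 M) : M = 20160 :=
  card_of_real h (by decide +kernel) (by decide +kernel)
theorem card52 {M : ℕ} (h : Art.Real (.L 5) 2 1 M) : M = 9999360 :=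
  card_of_real h (by decide +kernel) (by decide +kernel)
theorem card62 {M : ℕ} (h : Art.Real (.L 6) 2 1 M) : M = 20158709760 :=
  card_of_real h (by decide +kernel) (by decide +kernel)
theorem card72 {M : ℕ} (h : Art.Real (.L 7) 2 1 M) : M = 163849992929280 :=
  card_of_real h (by decide +kernel) (by decide +kernel)
theorem card43 {M : ℕ} (h : Art.Real (.L 4) 3 1 M) : M = 6065280 :=
  card_of_real h (by decide +kernel) (by decide +kernel)
theorem card44 {M : ℕ} (h : Art.Real (.L 4) 2 2 M) : M = 987033600 :=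
  card_of_real h (by decide +kernel) (by decide +kernel)

theorem order_eq {p l m : ℕ} (hm : 0 < m) (h1 : ((p : ℕ) : ZMod l) ^ m = 1)
    (h2 : ∀ t : ℕ, t < m → 0 < t → ((p : ℕ) : ZMod l) ^ t ≠ 1) : orderOf ((p : ℕ) : ZMod l) = m := by
  rw [orderOf_eq_iff hm]
  exact ⟨h1, fun t ht ht0 h => h2 t ht ht0 h⟩

theorem o7 : orderOf ((2 : ℕ) : ZMod 7) = 3 := order_eq (by norm_num) (by decide) (by decide)
theorem o5 : orderOf ((2 : ℕ) : ZMod 5) = 4 := order_eq (by norm_num) (by decide) (by decide)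
theorem o31 : orderOf ((2 : ℕ) : ZMod 31) = 5 := order_eq (by norm_num) (by decide) (by decide)
theorem o127 : orderOf ((2 : ℕ) : ZMod 127) = 7 := order_eq (by norm_num) (by decide) (by decide)
theorem o17 : orderOf ((2 : ℕ) : ZMod 17) = 8 := order_eq (by norm_num) (by decide) (by decide)
theorem o9 : orderOf ((2 : ℕ) : ZMod 9) = 6 := order_eq (by norm_num) (by decide) (by decide)
theorem o5' : orderOf ((3 : ℕ) : ZMod 5) = 4 := order_eq (by norm_num) (by decide) (by decide)
theorem o13' : orderOf ((3 : ℕ) : ZMod 13) = 3 := order_eq (by norm_num) (by decide) (by decide)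

/-! ### `PSL_4(2)` and `PSL_5(2)` -/

theorem simple42 {G : Type u} [Group G] [Finite G] (h : GHyp G 2 1 4) : IsSimpleGroup G := by
  have hcard := card42 h.real
  have h7 : ∀ x : G, 7 ∣ orderOf x → orderOf x ∣ 7 := h.dvdn1 7 (by norm_num) o7
  rcases simple_or (k := 2880) (n := 3) (l := 7) (by norm_num) (by rw [hcard]) (by norm_num)
    (fun s hs _ => nonadj_of_dvd (by norm_num) h7 hs) Nat.prime_three (by norm_num) (by norm_num)
    (by norm_num) with h1 | h1
  · exact h1
  · exfalso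
    obtain ⟨t, a, N, ht, htk, hNn, ha1, hN, hak, hla⟩ := h1
    have ht' : t = 2 ∨ t = 3 ∨ t = 5 := by
      rw [show (2880 : ℕ) = 2 ^ 6 * 3 ^ 2 * 5 by norm_num] at htk
      rcases (ht.dvd_mul).mp htk with h2 | h2
      · rcases (ht.dvd_mul).mp h2 with h2 | h2
        · exact Or.inl ((Nat.prime_dvd_prime_iff_eq ht Nat.prime_two).mp (ht.dvd_of_dvd_pow h2))
        · exact Or.inr (Or.inl ((Nat.prime_dvd_prime_iff_eq ht Nat.prime_three).mp (ht.dvd_of_dvd_pow h2)))
      · exact Or.inr (Or.inr ((Nat.prime_dvd_prime_iff_eq ht Nat.prime_five).mp h2))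
    rcases ht' with rfl | rfl | rfl
    · have ha6 : a ≤ 6 := pow_le_of_dvd_mul Nat.prime_two (b := 6) (c := 45)
        (hak.trans (by norm_num)) (by norm_num)
      have h5 : 5 ∣ 2 ^ a - 1 := by
        have h6 := dvd_pow_sub_one (G := G) Nat.prime_two Nat.prime_five (by norm_num)
          (h.nonadj 5 Nat.prime_five (Or.inl o5)) N (by rw [hcard]; norm_num)
          (by rw [hN]; intro h7; have := Nat.prime_five.dvd_of_dvd_pow h7; omega)
        rwa [hN, Nat.prime_two.factorization_pow, Finsupp.single_eq_same] at h6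
      interval_cases a <;> revert h5 hla <;> decide
    · have ha6 : a ≤ 2 := pow_le_of_dvd_mul Nat.prime_three (b := 2) (c := 320)
        (hak.trans (by norm_num)) (by norm_num)
      interval_cases a <;> revert hla <;> decide
    · have ha6 : a ≤ 1 := pow_le_of_dvd_mul Nat.prime_five (b := 1) (c := 576)
        (hak.trans (by norm_num)) (by norm_num)
      interval_cases a <;> revert hla <;> decide

theorem simple52 {G : Type u} [Group G] [Finite G] (h : GHyp G 2 1 5) : IsSimpleGroup G := by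
  have hcard := card52 h.real
  have h31 : ∀ x : G, 31 ∣ orderOf x → orderOf x ∣ 31 := h.dvdn 31 (by norm_num) o31
  rcases simple_or (k := 322560) (n := 5) (l := 31) (by norm_num) (by rw [hcard]) (by norm_num)
    (fun s hs _ => nonadj_of_dvd (by norm_num) h31 hs) Nat.prime_five (by norm_num) (by norm_num)
    (by norm_num) with h1 | h1
  · exact h1
  · exfalso
    obtain ⟨t, a, N, ht, htk, hNn, ha1, hN, hak, hla⟩ := h1
    have ht' : t = 2 ∨ t = 3 ∨ t = 5 ∨ t = 7 := by
      rw [show (322560 : ℕ) = 2 ^ 10 * 3 ^ 2 * 5 * 7 by norm_num] at htk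
      rcases (ht.dvd_mul).mp htk with h2 | h2
      · rcases (ht.dvd_mul).mp h2 with h2 | h2
        · rcases (ht.dvd_mul).mp h2 with h2 | h2
          · exact Or.inl ((Nat.prime_dvd_prime_iff_eq ht Nat.prime_two).mp (ht.dvd_of_dvd_pow h2))
          · exact Or.inr (Or.inl ((Nat.prime_dvd_prime_iff_eq ht Nat.prime_three).mp (ht.dvd_of_dvd_pow h2)))
        · exact Or.inr (Or.inr (Or.inl ((Nat.prime_dvd_prime_iff_eq ht Nat.prime_five).mp h2)))
      · exact Or.inr (Or.inr (Or.inr ((Nat.prime_dvd_prime_iff_eq ht (by norm_num)).mp h2)))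
    rcases ht' with rfl | rfl | rfl | rfl
    · have ha6 : a ≤ 10 := pow_le_of_dvd_mul Nat.prime_two (b := 10) (c := 315)
        (hak.trans (by norm_num)) (by norm_num)
      have h5 : 5 ∣ 2 ^ a - 1 := by
        have h6 := dvd_pow_sub_one (G := G) Nat.prime_two Nat.prime_five (by norm_num)
          (h.nonadj 5 Nat.prime_five (Or.inr o5)) N (by rw [hcard]; norm_num)
          (by rw [hN]; intro h7; have := Nat.prime_five.dvd_of_dvd_pow h7; omega)
        rwa [hN, Nat.prime_two.factorization_pow, Finsupp.single_eq_same] at h6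
      interval_cases a <;> revert h5 hla <;> decide
    · have ha6 : a ≤ 2 := pow_le_of_dvd_mul Nat.prime_three (b := 2) (c := 35840)
        (hak.trans (by norm_num)) (by norm_num)
      interval_cases a <;> revert hla <;> decide
    · have ha6 : a ≤ 1 := pow_le_of_dvd_mul Nat.prime_five (b := 1) (c := 64512)
        (hak.trans (by norm_num)) (by norm_num)
      interval_cases a <;> revert hla <;> decide
    · have ha6 : a ≤ 1 := pow_le_of_dvd_mul (show Nat.Prime 7 by norm_num) (b := 1) (c := 46080)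
        (hak.trans (by norm_num)) (by norm_num)
      interval_cases a <;> revert hla <;> decide

/-! ### `PSL_6(2)` -/

/-- the possible normal subgroups -/
theorem sub62 {b t a k : ℕ} (hb : b ≤ 15) (hk : k = 2 ^ b * (3 ^ 4 * (5 * 7 ^ 2))) (ht : t.Prime) (htk : t ∣ k) (ha1 : 1 ≤ a)
    (hak : t ^ a ∣ k) (hla : 31 ∣ t ^ a - 1) : t = 2 ∧ a ≤ b := by
  subst hk
  have ht' : t = 2 ∨ t = 3 ∨ t = 5 ∨ t = 7 := by
    rcases (ht.dvd_mul).mp htk with h2 | h2
    · exact Or.inl ((Nat.prime_dvd_prime_iff_eq ht Nat.prime_two).mp (ht.dvd_of_dvd_pow h2))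
    · rcases (ht.dvd_mul).mp h2 with h2 | h2
      · exact Or.inr (Or.inl ((Nat.prime_dvd_prime_iff_eq ht Nat.prime_three).mp (ht.dvd_of_dvd_pow h2)))
      · rcases (ht.dvd_mul).mp h2 with h2 | h2
        · exact Or.inr (Or.inr (Or.inl ((Nat.prime_dvd_prime_iff_eq ht Nat.prime_five).mp h2)))
        · exact Or.inr (Or.inr (Or.inr ((Nat.prime_dvd_prime_iff_eq ht (by norm_num)).mp
            (ht.dvd_of_dvd_pow h2))))
  rcases ht' with rfl | rfl | rfl | rfl
  · exact ⟨rfl, pow_le_of_dvd_mul Nat.prime_two hak (by norm_num)⟩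
  · exfalso
    have h1 : 3 ^ a ∣ 3 ^ 4 * (5 * 7 ^ 2) := Nat.Coprime.dvd_of_dvd_mul_left
      (Nat.Coprime.pow _ _ (by norm_num)) hak
    have ha6 : a ≤ 4 := pow_le_of_dvd_mul Nat.prime_three h1 (by norm_num)
    interval_cases a <;> revert hla <;> decide
  · exfalso
    have h1 : 5 ^ a ∣ 3 ^ 4 * (5 * 7 ^ 2) := Nat.Coprime.dvd_of_dvd_mul_left
      (Nat.Coprime.pow _ _ (by norm_num)) hak
    have ha6 : a ≤ 1 := pow_le_of_dvd_mul Nat.prime_five (b := 1) (c := 3969) (h1.trans (by norm_num)) (by norm_num)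
    interval_cases a <;> revert hla <;> decide
  · exfalso
    have h1 : 7 ^ a ∣ 3 ^ 4 * (5 * 7 ^ 2) := Nat.Coprime.dvd_of_dvd_mul_left
      (Nat.Coprime.pow _ _ (by norm_num)) hak
    have ha6 : a ≤ 2 := pow_le_of_dvd_mul (show Nat.Prime 7 by norm_num) (b := 2) (c := 405)
      (h1.trans (by norm_num)) (by norm_num)
    interval_cases a <;> revert hla <;> decide

theorem cands62 : (OrdDiv.cands [(2, 5), (3, 4), (5, 1), (7, 2), (31, 1)] 19686240).filter
    (fun g => OrdDiv.ordN g == 19686240) = [] := by decide +kernel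

theorem cands72 : (OrdDiv.cands [(2, 7), (3, 4), (5, 1), (7, 2), (31, 1), (127, 1)] 10000609920).filter
    (fun g => OrdDiv.ordN g == 10000609920) = [] := by decide +kernel

theorem nab_of_card {Q : Type*} [Group Q] [Finite Q] [IsSimpleGroup Q] (h2 : ¬ (Nat.card Q).Prime) :
    ¬ ∀ a b : Q, a * b = b * a := by
  intro h
  let _ : CommGroup Q := { (inferInstance : Group Q) with mul_comm := h }
  exact h2 IsSimpleGroup.prime_card

theorem simple62 (T : OrdDiv.OrderTable.{u})
    (known : ∀ (S : Type u) [Group S] [Finite S] [IsSimpleGroup S], IsKnownSimple' S)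
    {G : Type u} [Group G] [Finite G] (h : GHyp G 2 1 6) (h9 : Nine G) : IsSimpleGroup G := by
  have hcard := card62 h.real
  have h31 : ∀ x : G, 31 ∣ orderOf x → orderOf x ∣ 31 := h.dvdn1 31 (by norm_num) o31
  rcases simple_or (k := 650280960) (n := 5) (l := 31) (by norm_num) (by rw [hcard]) (by norm_num)
    (fun s hs _ => nonadj_of_dvd (by norm_num) h31 hs) Nat.prime_five (by norm_num) (by norm_num)
    (by norm_num) with h1 | h1
  · exact h1
  · exfalso
    obtain ⟨t, a, N, ht, htk, hNn, ha1, hN, hak, hla⟩ := h1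
    obtain ⟨rfl, ha⟩ := sub62 (b := 15) le_rfl (by norm_num) ht htk ha1 hak hla
    have h3 := h9.mod N hN
    have ha10 : a = 10 := by
      interval_cases a <;> revert h3 hla <;> decide
    subst ha10
    have hQ : Nat.card (G ⧸ N) = 19686240 := by
      have h4 := N.card_mul_index
      rw [hN, hcard] at h4
      rw [← Subgroup.index_eq_card]
      omega
    rcases simple_or (G := G ⧸ N) (k := 635040) (n := 5) (l := 31) (by norm_num) (by rw [hQ]) (by norm_num)
      (fun s hs _ => (nonadj_of_dvd (by norm_num) h31 hs).quotient N) Nat.prime_five (by norm_num) (by norm_num)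
      (by norm_num) with h1 | h1
    · have hna := nab_of_card (Q := G ⧸ N) (by rw [hQ]; norm_num)
      obtain ⟨g, hg, -⟩ := OrdDiv.exists_real_filter T (known (G ⧸ N)) hna
        (l := [(2, 5), (3, 4), (5, 1), (7, 2), (31, 1)]) (N := 19686240) (by decide +kernel) (by rw [hQ])
        (fun m => m == 19686240) (by rw [hQ]; rfl)
      rw [cands62] at hg
      exact absurd hg (by simp)
    · obtain ⟨t, a, M, ht, htk, hMn, ha1, hM, hak', hla'⟩ := h1
      obtain ⟨rfl, ha'⟩ := sub62 (b := 5) (by norm_num) (by norm_num) ht htk ha1 hak' hla'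
      have h3' := (h9.quotient N (by rw [hN]; norm_num)).mod M hM
      interval_cases a <;> revert h3' hla' <;> decide

/-! ### `PSL_7(2)` -/

/-- the possible normal subgroups -/
theorem sub72 {b t a k : ℕ} (hb : b ≤ 21) (hk : k = 2 ^ b * (3 ^ 4 * (5 * (7 ^ 2 * 31)))) (ht : t.Prime)
    (htk : t ∣ k) (ha1 : 1 ≤ a)
    (hak : t ^ a ∣ k) (hla : 127 ∣ t ^ a - 1) : t = 2 ∧ a ≤ b := by
  subst hk
  have ht' : t = 2 ∨ t = 3 ∨ t = 5 ∨ t = 7 ∨ t = 31 := by
    rcases (ht.dvd_mul).mp htk with h2 | h2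
    · exact Or.inl ((Nat.prime_dvd_prime_iff_eq ht Nat.prime_two).mp (ht.dvd_of_dvd_pow h2))
    · rcases (ht.dvd_mul).mp h2 with h2 | h2
      · exact Or.inr (Or.inl ((Nat.prime_dvd_prime_iff_eq ht Nat.prime_three).mp (ht.dvd_of_dvd_pow h2)))
      · rcases (ht.dvd_mul).mp h2 with h2 | h2
        · exact Or.inr (Or.inr (Or.inl ((Nat.prime_dvd_prime_iff_eq ht Nat.prime_five).mp h2)))
        · rcases (ht.dvd_mul).mp h2 with h2 | h2
          · exact Or.inr (Or.inr (Or.inr (Or.inl ((Nat.prime_dvd_prime_iff_eq ht (by norm_num)).mp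
              (ht.dvd_of_dvd_pow h2)))))
          · exact Or.inr (Or.inr (Or.inr (Or.inr ((Nat.prime_dvd_prime_iff_eq ht (by norm_num)).mp h2))))
  rcases ht' with rfl | rfl | rfl | rfl | rfl
  · exact ⟨rfl, pow_le_of_dvd_mul Nat.prime_two hak (by norm_num)⟩
  · exfalso
    have h1 : 3 ^ a ∣ 3 ^ 4 * (5 * (7 ^ 2 * 31)) := Nat.Coprime.dvd_of_dvd_mul_left
      (Nat.Coprime.pow _ _ (by norm_num)) hak
    have ha6 : a ≤ 4 := pow_le_of_dvd_mul Nat.prime_three h1 (by norm_num)
    interval_cases a <;> revert hla <;> decide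
  · exfalso
    have h1 : 5 ^ a ∣ 3 ^ 4 * (5 * (7 ^ 2 * 31)) := Nat.Coprime.dvd_of_dvd_mul_left
      (Nat.Coprime.pow _ _ (by norm_num)) hak
    have ha6 : a ≤ 1 := pow_le_of_dvd_mul Nat.prime_five (b := 1) (c := 123039) (h1.trans (by norm_num)) (by norm_num)
    interval_cases a <;> revert hla <;> decide
  · exfalso
    have h1 : 7 ^ a ∣ 3 ^ 4 * (5 * (7 ^ 2 * 31)) := Nat.Coprime.dvd_of_dvd_mul_left
      (Nat.Coprime.pow _ _ (by norm_num)) hak
    have ha6 : a ≤ 2 := pow_le_of_dvd_mul (show Nat.Prime 7 by norm_num) (b := 2) (c := 12555)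
      (h1.trans (by norm_num)) (by norm_num)
    interval_cases a <;> revert hla <;> decide
  · exfalso
    have h1 : 31 ^ a ∣ 3 ^ 4 * (5 * (7 ^ 2 * 31)) := Nat.Coprime.dvd_of_dvd_mul_left
      (Nat.Coprime.pow _ _ (by norm_num)) hak
    have ha6 : a ≤ 1 := pow_le_of_dvd_mul (show Nat.Prime 31 by norm_num) (b := 1) (c := 19845)
      (h1.trans (by norm_num)) (by norm_num)
    interval_cases a <;> revert hla <;> decide

theorem simple72 (T : OrdDiv.OrderTable.{u})
    (known : ∀ (S : Type u) [Group S] [Finite S] [IsSimpleGroup S], IsKnownSimple' S)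
    {G : Type u} [Group G] [Finite G] (h : GHyp G 2 1 7) (h9 : Nine G) : IsSimpleGroup G := by
  have hcard := card72 h.real
  have h127 : ∀ x : G, 127 ∣ orderOf x → orderOf x ∣ 127 := h.dvdn 127 (by norm_num) o127
  rcases simple_or (k := 1290157424640) (n := 7) (l := 127) (by norm_num) (by rw [hcard]) (by norm_num)
    (fun s hs _ => nonadj_of_dvd (by norm_num) h127 hs) (by norm_num) (by norm_num) (by norm_num)
    (by norm_num) with h1 | h1
  · exact h1
  · exfalso
    obtain ⟨t, a, N, ht, htk, hNn, ha1, hN, hak, hla⟩ := h1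
    obtain ⟨rfl, ha⟩ := sub72 (b := 21) le_rfl (by norm_num) ht htk ha1 hak hla
    have h3 := h9.mod N hN
    have ha10 : a = 14 := by
      interval_cases a <;> revert h3 hla <;> decide
    subst ha10
    have hQ : Nat.card (G ⧸ N) = 10000609920 := by
      have h4 := N.card_mul_index
      rw [hN, hcard] at h4
      rw [← Subgroup.index_eq_card]
      omega
    rcases simple_or (G := G ⧸ N) (k := 78744960) (n := 7) (l := 127) (by norm_num) (by rw [hQ]) (by norm_num)
      (fun s hs _ => (nonadj_of_dvd (by norm_num) h127 hs).quotient N) (by norm_num) (by norm_num) (by norm_num)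
      (by norm_num) with h1 | h1
    · have hna := nab_of_card (Q := G ⧸ N) (by rw [hQ]; norm_num)
      obtain ⟨g, hg, -⟩ := OrdDiv.exists_real_filter T (known (G ⧸ N)) hna
        (l := [(2, 7), (3, 4), (5, 1), (7, 2), (31, 1), (127, 1)]) (N := 10000609920) (by decide +kernel)
        (by rw [hQ]) (fun m => m == 10000609920) (by rw [hQ]; rfl)
      rw [cands72] at hg
      exact absurd hg (by simp)
    · obtain ⟨t, a, M, ht, htk, hMn, ha1, hM, hak', hla'⟩ := h1
      obtain ⟨rfl, ha'⟩ := sub72 (b := 7) (by norm_num) (by norm_num) ht htk ha1 hak' hla'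
      have h3' := (h9.quotient N (by rw [hN]; norm_num)).mod M hM
      interval_cases a <;> revert h3' hla' <;> decide

end Cfsg.Agent.H363.PslIso
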