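import Mathlib
import Cfsg.Agent.H363.PslSpec
import Cfsg.Agent.H363.IsoHallMain
import Cfsg.Agent.H363.ArithL3
import Cfsg.Agent.S0243

/-!
# `PSL₃(q)` by order and spectrum: simplicity
-/

set_option autoImplicit false

namespace Cfsg.Agent.H363.PslThree

open Matrix Module Cfsg.Agent.H363.PslSpec Cfsg.Agent.H363.Frat

universe u

/-- the block matrix -/
noncomputable def blk {F : Type u} [Field F] (A : Matrix (Fin 2) (Fin 2) F) :
    Matrix (Fin 3) (Fin 3) F :=
  Matrix.reindex finSumFinEquiv finSumFinEquiv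
    (Matrix.fromBlocks A 0 0 (Matrix.scalar (Fin 1) (A.det)⁻¹))

theorem blk_one {F : Type u} [Field F] : blk (1 : Matrix (Fin 2) (Fin 2) F) = 1 := by
  simp [blk]

theorem blk_mul {F : Type u} [Field F] (A B : Matrix (Fin 2) (Fin 2) F) :
    blk (A * B) = blk A * blk B := by
  have : Matrix.scalar (Fin 1) ((A * B).det)⁻¹ =
      Matrix.scalar (Fin 1) (A.det)⁻¹ * Matrix.scalar (Fin 1) (B.det)⁻¹ := by
    rw [← map_mul]
    congr 1
    rw [Matrix.det_mul, mul_inv]
  rw [blk, blk, blk, this, Matrix.reindex_apply, Matrix.reindex_apply, Matrix.reindex_apply,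
    Matrix.submatrix_mul_equiv, Matrix.fromBlocks_multiply]
  simp

theorem blk_det {F : Type u} [Field F] {A : Matrix (Fin 2) (Fin 2) F} (hA : A.det ≠ 0) :
    (blk A).det = 1 := by
  rw [blk, Matrix.det_reindex_self, Matrix.det_fromBlocks_zero₂₁]
  simp [mul_inv_cancel₀ hA]

theorem blk_injective {F : Type u} [Field F] : Function.Injective (blk (F := F)) := by
  intro A B h
  have h1 := (Matrix.reindex finSumFinEquiv finSumFinEquiv).injective h
  exact (Matrix.fromBlocks_inj.mp h1).1

/-- `GL₂` in `SL₃`. -/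
noncomputable def emb (F : Type u) [Field F] :
    GL (Fin 2) F →* Matrix.SpecialLinearGroup (Fin 3) F where
  toFun A := ⟨blk (A : Matrix (Fin 2) (Fin 2) F), blk_det (A.isUnit.map Matrix.detMonoidHom).ne_zero⟩
  map_one' := Subtype.ext blk_one
  map_mul' A B := Subtype.ext (blk_mul _ _)

theorem emb_injective (F : Type u) [Field F] : Function.Injective (emb F) := by
  intro A B h
  apply Units.ext
  exact blk_injective (congrArg Subtype.val h)

/-- An element of order divisible by `(q² - 1) / gcd (3, q - 1)`. -/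
theorem exists_big {F : Type u} [Field F] [Finite F] :
    ∃ x : ProjectiveSpecialLinearGroup (Fin 3) F,
      Nat.card F ^ 2 - 1 ∣ orderOf x * Nat.gcd 3 (Nat.card F - 1) := by
  obtain ⟨K, _, _, hK, f, hf⟩ := Cfsg.Agent.LieExceptional.CyclicSylow.exists_singer F 2
  obtain ⟨ζ, hζ⟩ := IsCyclic.exists_generator (α := Kˣ)
  have hord : orderOf ζ = Nat.card F ^ 2 - 1 := by
    rw [orderOf_eq_card_of_forall_mem_zpowers hζ, Nat.card_units, hK]
  have h1 : orderOf (emb F (f ζ)) = Nat.card F ^ 2 - 1 := by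
    rw [orderOf_injective (emb F) (emb_injective F), orderOf_injective f hf, hord]
  refine ⟨pr F 3 (emb F (f ζ)), ?_⟩
  have h2 := lift_pow (emb F (f ζ)) (pow_orderOf_eq_one (pr F 3 (emb F (f ζ))))
  rw [← h1]
  exact orderOf_dvd_of_pow_eq_one h2

/-- The order of `PSL₃(q)`. -/
theorem card_psl_three {F : Type u} [Field F] [Fintype F] :
    Nat.gcd 3 (Fintype.card F - 1) *
      Nat.card (Matrix.ProjectiveSpecialLinearGroup (Fin 3) F) =
      Fintype.card F ^ 3 * ((Fintype.card F ^ 2 - 1) * (Fintype.card F ^ 3 - 1)) := by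
  have h1 := Cfsg.Agent.S0243.result (F := F) rfl 3 (by norm_num)
  rw [Fin.prod_univ_three] at h1
  have hq : 1 < Fintype.card F := Fintype.one_lt_card
  generalize Nat.card (Matrix.ProjectiveSpecialLinearGroup (Fin 3) F) = N at h1 ⊢
  generalize Fintype.card F = q at h1 hq ⊢
  generalize Nat.gcd 3 (q - 1) = d at h1 ⊢
  have e1 : q ^ 3 - q ^ ((0 : Fin 3) : ℕ) = q ^ 3 - 1 := by simp
  have e2 : q ^ 3 - q ^ ((1 : Fin 3) : ℕ) = q * (q ^ 2 - 1) := by
    simp only [Fin.val_one, pow_one]
    rw [Nat.mul_sub, mul_one]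
    congr 1
    ring
  have e3 : q ^ 3 - q ^ ((2 : Fin 3) : ℕ) = q ^ 2 * (q - 1) := by
    have : ((2 : Fin 3) : ℕ) = 2 := rfl
    rw [this, Nat.mul_sub, mul_one]
    congr 1
  rw [e1, e2, e3] at h1
  have h2 : (q - 1) * (d * N) = (q - 1) * (q ^ 3 * ((q ^ 2 - 1) * (q ^ 3 - 1))) := by
    calc (q - 1) * (d * N) = d * ((q - 1) * N) := by ring
      _ = _ := h1
      _ = _ := by ring
  exact Nat.eq_of_mul_eq_mul_left (by omega) h2

/-- An element of order eight acting on a group of odd order `Q`, `|Q| ≡ 3 mod 4`: its square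
fixes a nontrivial element. -/
theorem exists_fixed {Q : Type*} [Group Q] [Finite Q] (P : MulAut Q) (hP : P ^ 8 = 1)
    (hQ : Nat.card Q % 4 = 3) : ∃ v : Q, v ≠ 1 ∧ (P ^ 2) v = v := by
  classical
  by_contra hcon
  push Not at hcon
  have hP1 : ∀ (k : ℕ) (v : Q), (P ^ k) v = 1 ↔ v = 1 := by
    intro k v
    constructor
    · intro h
      apply (P ^ k).injective
      rw [h, map_one]
    · intro h; rw [h, map_one]
  have hcomm : ∀ (k : ℕ) (v : Q), (P ^ k) (P v) = P ((P ^ k) v) := by
    intro k v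
    rw [← MulAut.mul_apply, ← MulAut.mul_apply, (Commute.self_pow P k).eq]
  let σ : Equiv.Perm Q := P.toEquiv
  have hσ : ∀ (k : ℕ) (v : Q), (σ ^ k) v = (P ^ k) v := by
    intro k
    induction k with
    | zero => intro v; rfl
    | succ k ih =>
      intro v
      rw [pow_succ, pow_succ, Equiv.Perm.mul_apply, MulAut.mul_apply, ih]
      rfl
  let X1 : Q → Prop := fun v => v ≠ 1 ∧ (P ^ 4) v = v
  let X2 : Q → Prop := fun v => (P ^ 4) v ≠ v
  have hX1 : ∀ v, X1 (σ v) ↔ X1 v := by
    intro v
    show (P v ≠ 1 ∧ (P ^ 4) (P v) = P v) ↔ (v ≠ 1 ∧ (P ^ 4) v = v)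
    rw [hcomm, P.injective.eq_iff]
    have := hP1 1 v
    rw [pow_one] at this
    exact and_congr (not_congr this) Iff.rfl
  have hX2 : ∀ v, X2 (σ v) ↔ X2 v := by
    intro v
    show ((P ^ 4) (P v) ≠ P v) ↔ ((P ^ 4) v ≠ v)
    rw [hcomm, Ne, P.injective.eq_iff]
  have h1 : 2 ^ (1 + 1) ∣ Nat.card {v // X1 v} := by
    apply CommUnip.pow_dvd_card (σ.subtypePerm hX1) Nat.prime_two
    · ext v
      rw [Equiv.Perm.subtypePerm_pow, Equiv.Perm.subtypePerm_apply]
      show (σ ^ 4) (v : Q) = v
      rw [hσ]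
      exact v.2.2
    · intro v hv
      rw [Equiv.Perm.subtypePerm_pow] at hv
      have h2 := congrArg Subtype.val hv
      rw [Equiv.Perm.subtypePerm_apply] at h2
      have h3 : (σ ^ 2) (v : Q) = v := h2
      rw [hσ] at h3
      exact hcon v v.2.1 h3
  have h2 : 2 ^ (2 + 1) ∣ Nat.card {v // X2 v} := by
    apply CommUnip.pow_dvd_card (σ.subtypePerm hX2) Nat.prime_two
    · ext v
      rw [Equiv.Perm.subtypePerm_pow, Equiv.Perm.subtypePerm_apply]
      show (σ ^ 8) (v : Q) = v
      rw [hσ, hP]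
      rfl
    · intro v hv
      rw [Equiv.Perm.subtypePerm_pow] at hv
      have h2 := congrArg Subtype.val hv
      rw [Equiv.Perm.subtypePerm_apply] at h2
      have h3 : (σ ^ 4) (v : Q) = v := h2
      rw [hσ] at h3
      exact v.2 h3
  have h3 : Nat.card Q = 1 + Nat.card {v // X1 v} + Nat.card {v // X2 v} := by
    have e : Q ≃ (Unit ⊕ {v // X1 v}) ⊕ {v // X2 v} :=
      { toFun := fun v => if h : (P ^ 4) v = v then
          (if h1 : v = 1 then Sum.inl (Sum.inl ()) else Sum.inl (Sum.inr ⟨v, h1, h⟩))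
          else Sum.inr ⟨v, h⟩
        invFun := Sum.elim (Sum.elim (fun _ => 1) (fun v => v.1)) (fun v => v.1)
        left_inv := fun v => by
          by_cases h : (P ^ 4) v = v
          · by_cases h1 : v = 1
            · simp [h1]
            · simp [h, h1]
          · simp [h]
        right_inv := fun v => by
          rcases v with (v | v) | v
          · simp
          · have h1 : (v : Q) ≠ 1 := v.2.1
            have h2 : (P ^ 4) (v : Q) = v := v.2.2
            simp [h1, h2]
          · have h1 : (P ^ 4) (v : Q) ≠ v := v.2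
            simp [h1] }
    rw [Nat.card_congr e, Nat.card_sum, Nat.card_sum, Nat.card_unique]
  have h4 : 4 ∣ Nat.card {v // X1 v} := h1
  have h5 : 8 ∣ Nat.card {v // X2 v} := h2
  omega

/-- A power of an element has prescribed order. -/
theorem exists_pow_order {G : Type*} [Group G] [Finite G] (x : G) {a : ℕ} (h : a ∣ orderOf x) :
    ∃ y : G, orderOf y = a := by
  obtain ⟨b, hb⟩ := h
  have hb0 : b ≠ 0 := by
    rintro rfl
    rw [mul_zero] at hb
    exact (orderOf_pos x).ne' hb
  exact ⟨x ^ b, by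
    rw [orderOf_pow' x hb0, hb, Nat.gcd_eq_right (Dvd.intro_left _ rfl)]
    exact Nat.mul_div_cancel _ (Nat.pos_of_ne_zero hb0)⟩

/-- **A finite group with the order and the spectrum of `PSL₃(q)` is simple.** -/
theorem isSimple {F : Type u} [Field F] [Fintype F] {G : Type*} [Group G] [Finite G]
    (hspec : Set.range (orderOf : G → ℕ) =
      Set.range (orderOf : Matrix.ProjectiveSpecialLinearGroup (Fin 3) F → ℕ))
    (hcard : Nat.card G = Nat.card (Matrix.ProjectiveSpecialLinearGroup (Fin 3) F)) :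
    IsSimpleGroup G := by
  obtain ⟨p, hchar⟩ := CharP.exists F
  obtain ⟨f, hp, hf⟩ := FiniteField.card F p
  have hpf : Fact p.Prime := ⟨hp⟩
  have hNF : Nat.card F = Fintype.card F := Nat.card_eq_fintype_card
  have hcardF := card_psl_three (F := F)
  rw [← hcard] at hcardF
  -- transfer
  have htr : ∀ g : G, ∃ y : Matrix.ProjectiveSpecialLinearGroup (Fin 3) F, orderOf y = orderOf g := by
    intro g
    have h1 : orderOf g ∈ Set.range (orderOf : Matrix.ProjectiveSpecialLinearGroup (Fin 3) F → ℕ) := by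
      rw [← hspec]; exact ⟨g, rfl⟩
    exact h1
  have htr' : ∀ y : Matrix.ProjectiveSpecialLinearGroup (Fin 3) F, ∃ g : G, orderOf g = orderOf y := by
    intro y
    have h1 : orderOf y ∈ Set.range (orderOf : G → ℕ) := by
      rw [hspec]; exact ⟨y, rfl⟩
    exact h1
  have hsinger := fun {r : ℕ} (hr : r.Prime) => orderOf_dvd_singer (F := F) (n := 3) hr (by norm_num)
  obtain ⟨x0, hx0⟩ := PslSpec.exists_singer (F := F) (n := 3) (by norm_num)
  have hbig := exists_big (F := F)
  have hnot := fun {l j e : ℕ} (hl : l.Prime) => not_dvd_orderOf (F := F) (n := 3) hp (l := l)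
    (j := j) (e := e) hl
  rw [hNF] at hbig hx0
  simp only [hNF] at hsinger hnot
  set q := Fintype.card F with hq
  have hq1 : 1 < q := Fintype.one_lt_card
  set c := Nat.gcd 3 (q - 1) with hc
  have hc13 := ArithL3.gcd_three (q - 1)
  rw [← hc] at hc13
  -- `m`
  have hM : (q ^ 3 - 1) / (q - 1) = q ^ 2 + q + 1 := by
    obtain ⟨j, hj⟩ : ∃ j, q = j + 1 := ⟨q - 1, by omega⟩
    rw [hj, Nat.add_sub_cancel]
    have h1 : (j + 1) ^ 3 - 1 = j * ((j + 1) ^ 2 + (j + 1) + 1) := by
      have : (j + 1) ^ 3 = j * ((j + 1) ^ 2 + (j + 1) + 1) + 1 := by ring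
      omega
    rw [h1, Nat.mul_div_cancel_left _ (by omega)]
  have hcM : c ∣ q ^ 2 + q + 1 := by
    rcases hc13 with h | h
    · rw [h]; exact one_dvd _
    · rw [h]
      have h3 : 3 ∣ q - 1 := by
        have := Nat.gcd_dvd_right 3 (q - 1)
        rwa [← hc, h] at this
      obtain ⟨i, hi⟩ := h3
      have hqi : q = 3 * i + 1 := by omega
      rw [hqi]
      exact ⟨3 * i ^ 2 + 3 * i + 1, by ring⟩
  obtain ⟨m, hm⟩ := hcM
  have hc0 : 0 < c := by rcases hc13 with h | h <;> omega
  have hmdiv : (q ^ 2 + q + 1) / c = m := by rw [hm, Nat.mul_div_cancel_left _ hc0]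
  rw [hM, hmdiv] at hx0 hsinger
  have hm7 : 7 ≤ m := by
    rcases hc13 with h | h
    · rw [h, one_mul] at hm; nlinarith
    · have h3 : 3 ∣ q - 1 := by
        have := Nat.gcd_dvd_right 3 (q - 1)
        rwa [← hc, h] at this
      have : 4 ≤ q := by omega
      rw [h] at hm; nlinarith
  set k := q ^ 3 * ((q + 1) * (q - 1) ^ 2) with hk
  have hq2 : q ^ 2 - 1 = (q + 1) * (q - 1) := by
    obtain ⟨j, hj⟩ : ∃ j, q = j + 1 := ⟨q - 1, by omega⟩
    rw [hj, Nat.add_sub_cancel]
    have : (j + 1) ^ 2 = (j + 1 + 1) * j + 1 := by ring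
    omega
  have hq3 : q ^ 3 - 1 = (q - 1) * (q ^ 2 + q + 1) := by
    obtain ⟨j, hj⟩ : ∃ j, q = j + 1 := ⟨q - 1, by omega⟩
    rw [hj, Nat.add_sub_cancel]
    have : (j + 1) ^ 3 = j * ((j + 1) ^ 2 + (j + 1) + 1) + 1 := by ring
    omega
  have hGcard : Nat.card G = m * k := by
    have h1 : c * Nat.card G = c * (m * k) := by
      rw [hcardF, hk, hq2, hq3, hm]; ring
    exact Nat.eq_of_mul_eq_mul_left hc0 h1
  -- primes dividing `m`
  have hprm : ∀ r : ℕ, r.Prime → r ∣ m → ¬ r ∣ q ∧ ¬ r ∣ q - 1 ∧ ¬ r ∣ q + 1 ∧ r ∣ q ^ 3 - 1 := by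
    intro r hr hrm
    have h1 : r ∣ q ^ 2 + q + 1 := hrm.trans ⟨c, by rw [hm]; ring⟩
    refine ⟨fun h => ?_, fun h => ?_, fun h => ?_, ?_⟩
    · have h2 : r ∣ q ^ 2 + q := Dvd.dvd.add (h.trans (dvd_pow_self q two_ne_zero)) h
      exact hr.one_lt.ne' (Nat.dvd_one.mp ((Nat.dvd_add_right h2).mp h1))
    · obtain ⟨j, hj⟩ : ∃ j, q = j + 1 := ⟨q - 1, by omega⟩
      rw [hj, Nat.add_sub_cancel] at h
      rw [hj] at h1
      have h2 : (j + 1) ^ 2 + (j + 1) + 1 = j * (j + 3) + 3 := by ring
      rw [h2] at h1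
      have h3 : r ∣ 3 := (Nat.dvd_add_right (h.mul_right _)).mp h1
      have h4 : r = 3 := (Nat.prime_dvd_prime_iff_eq hr Nat.prime_three).mp h3
      subst h4
      have h5 : c = 3 := by
        rw [hc]
        apply Nat.gcd_eq_left
        rw [hj, Nat.add_sub_cancel]; exact h
      obtain ⟨i, hi⟩ := h
      rw [h5, hj, hi] at hm
      have h6 : m = 3 * (i ^ 2 + i) + (3 * i + 1) - 3 * i + 3 * i - 3 * i + 0 + (0 : ℕ) := by
        have : 3 * m = 3 * (3 * i ^ 2 + 3 * i + 1) := by rw [← hm]; ring
        omega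
      have h7 : m = 3 * (i ^ 2 + i) + 1 := by omega
      omega
    · have h2 : q ^ 2 + q + 1 = q * (q + 1) + 1 := by ring
      rw [h2] at h1
      exact hr.one_lt.ne' (Nat.dvd_one.mp ((Nat.dvd_add_right (h.mul_left q)).mp h1))
    · rw [hq3]; exact h1.mul_left _
  have hrd : ∀ r : ℕ, r.Prime → r ∣ m → ∀ d, 0 < d → d < 3 → ¬ r ∣ q ^ d - 1 := by
    intro r hr hrm d hd0 hd3
    obtain ⟨h1, h2, h3, -⟩ := hprm r hr hrm
    interval_cases d
    · rwa [pow_one]
    · rw [hq2]
      intro h
      rcases (hr.dvd_mul).mp h with h | h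
      · exact h3 h
      · exact h2 h
  have hnomk : ∀ r : ℕ, r.Prime → r ∣ m → ¬ r ∣ k := by
    intro r hr hrm h
    obtain ⟨h1, h2, h3, -⟩ := hprm r hr hrm
    rw [hk] at h
    rcases (hr.dvd_mul).mp h with h | h
    · exact h1 (hr.dvd_of_dvd_pow h)
    · rcases (hr.dvd_mul).mp h with h | h
      · exact h3 h
      · exact h2 (hr.dvd_of_dvd_pow h)
  have hcop : m.Coprime k := Nat.coprime_of_dvd (fun r hr h1 h2 => hnomk r hr h1 h2)
  obtain ⟨x, hx⟩ := htr' x0
  rw [hx0] at hx
  have hyp : IsoHall.Hyp G m k x :=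
    { ord := hx
      card := hGcard
      cop := hcop
      two := by omega
      nonadj := by
        intro r s hr hs hrm hsk g hg
        obtain ⟨y, hy⟩ := htr g
        have h1 := hsinger hr (hprm r hr hrm).2.2.2 (hrd r hr hrm) y
          (by rw [hy, hg]; exact dvd_mul_right _ _)
        rw [hy, hg] at h1
        exact hnomk s hs ((dvd_mul_left s r).trans h1) hsk }
  have hmod : k ≡ 3 [MOD m] := by
    have h1 : k = 3 + (q ^ 2 + q + 1) * ((q - 1) * (q ^ 3 * (q - 1) - 1)) + (q^3 - 1) * 0 ∨ True := Or.inr trivial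
    obtain ⟨j, hj⟩ : ∃ j, q = j + 1 := ⟨q - 1, by omega⟩
    have h2 : (q ^ 3 * ((q + 1) * (q - 1) ^ 2) : ℕ) ≡ 3 [MOD (q ^ 2 + q + 1)] := by
      rw [hj, Nat.add_sub_cancel]
      have h3 : (j + 1) ^ 3 * ((j + 1 + 1) * j ^ 2) =
        3 + ((j + 1) ^ 2 + (j + 1) + 1) * (j ^ 4 + 2 * j ^ 3 + j - 1) ∨ j = 0 := by
        rcases Nat.eq_zero_or_pos j with h | h
        · exact Or.inr h
        · left
          obtain ⟨i, rfl⟩ : ∃ i, j = i + 1 := ⟨j - 1, by omega⟩
          have : (i + 1) ^ 4 + 2 * (i + 1) ^ 3 + (i + 1) - 1 = (i + 1) ^ 4 + 2 * (i + 1) ^ 3 + i := by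
            omega
          rw [this]
          ring
      rcases h3 with h3 | h3
      · rw [h3]
        simp [Nat.ModEq]
      · omega
    exact h2.of_dvd ⟨c, by rw [hm]; ring⟩
  have hk3 : 3 < k := by
    rw [hk]
    have h1 : 2 ^ 3 ≤ q ^ 3 := Nat.pow_le_pow_left (by omega) 3
    have h2 : 1 ≤ (q + 1) * (q - 1) ^ 2 := Nat.mul_pos (by omega) (pow_pos (by omega) 2)
    nlinarith
  rcases IsoHall.simple_or hyp Nat.prime_three (by omega) hmod hk3 with h |
    ⟨t, N, ht, htk, hNn, hN1, hNt, hNc, hNe, hmN⟩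
  · exact h
  exfalso
  have htf : Fact t.Prime := ⟨ht⟩
  obtain ⟨a, ha⟩ := IsPGroup.iff_card.mp hNt
  have ha0 : a ≠ 0 := by
    rintro rfl
    rw [pow_zero] at ha
    exact hN1 (Subgroup.card_eq_one.mp ha)
  have hN2 : 1 < Nat.card N := by
    rw [ha]; exact Nat.one_lt_pow ha0 ht.one_lt
  have htm : ¬ t ∣ m := fun h => hnomk t ht h htk
  have hNk : Nat.card N ∣ k := by
    have h1 : Nat.card N ∣ m * k := by rw [← hGcard]; exact Subgroup.card_subgroup_dvd_card N
    have h2 : (Nat.card N).Coprime m := by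
      rw [ha]; exact Nat.Coprime.pow_left _ ((Nat.Prime.coprime_iff_not_dvd ht).mpr htm)
    exact h2.dvd_of_dvd_mul_left h1
  have hpq : p ∣ q := by rw [hf]; exact dvd_pow_self p f.ne_zero
  have hp1 : ¬ p ∣ q - 1 := by
    intro h
    have := Nat.dvd_sub hpq h
    rw [Nat.sub_sub_self hq1.le] at this
    exact hp.one_lt.ne' (Nat.dvd_one.mp this)
  have hp2 : ¬ p ∣ q + 1 := by
    intro h
    have := Nat.dvd_sub h hpq
    rw [Nat.add_sub_cancel_left] at this
    exact hp.one_lt.ne' (Nat.dvd_one.mp this)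
  by_cases htp : t = p
  · -- characteristic
    subst htp
    have hNq : t ^ a ∣ q ^ 3 := by
      rw [ha] at hNk
      rw [hk] at hNk
      refine Nat.Coprime.dvd_of_dvd_mul_right ?_ hNk
      apply Nat.Coprime.pow_left
      rw [Nat.Prime.coprime_iff_not_dvd ht]
      intro h
      rcases (ht.dvd_mul).mp h with h | h
      · exact hp2 h
      · exact hp1 (ht.dvd_of_dvd_pow h)
    have ha3 : a ≤ 3 * f := by
      rw [hf, ← pow_mul] at hNq
      have := (Nat.pow_dvd_pow_iff_le_right ht.one_lt).mp hNq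
      rw [mul_comm]; exact this
    have hfac : (Nat.card N).factorization t = a := by
      rw [ha, ht.factorization_pow, Finsupp.single_eq_same]
    have hchar := ArithL3.char_case ht hf f.ne_zero hc hm.symm (by rw [← ha]; exact hmN) ha0 ha3
    -- primes dividing `q + 1`
    have hadj : ∀ s : ℕ, s.Prime → s ≠ 2 → s ∣ q + 1 → s ∣ t ^ a - 1 := by
      intro s hs hs2 hsq
      have hst : s ≠ t := by rintro rfl; exact hp2 hsq
      have hs1 : ¬ s ∣ q - 1 := by
        intro h
        have := Nat.dvd_sub hsq h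
        have h2 : q + 1 - (q - 1) = 2 := by omega
        rw [h2] at this
        exact hs2 ((Nat.prime_dvd_prime_iff_eq hs Nat.prime_two).mp this)
      have hsq' : ¬ s ∣ q := by
        intro h
        have := Nat.dvd_sub hsq h
        rw [Nat.add_sub_cancel_left] at this
        exact hs.one_lt.ne' (Nat.dvd_one.mp this)
      have hna : NonAdj G s t := by
        intro g hg
        obtain ⟨y, hy⟩ := htr g
        refine hnot (l := s) (j := 0) (e := 2) hs hsq' ?_ ?_ le_rfl le_rfl y ?_
        · intro h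
          exact hs1 (h.trans (Nat.gcd_dvd_right _ _))
        · intro d hd
          rw [zero_add, pow_one] at hd
          rcases Nat.even_or_odd d with he | ho
          · exact he.two_dvd
          · exfalso
            -- `q ^ d ≡ -1`
            have h1 : s ∣ q ^ d + 1 := by
              have : q + 1 ∣ q ^ d + 1 ^ d := ho.nat_add_dvd_pow_add_pow q 1
              rw [one_pow] at this
              exact hsq.trans this
            have h2 := Nat.dvd_sub h1 hd
            have h3 : 1 ≤ q ^ d := Nat.one_le_pow _ _ (by omega)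
            have h4 : q ^ d + 1 - (q ^ d - 1) = 2 := by omega
            rw [h4] at h2
            exact hs2 ((Nat.prime_dvd_prime_iff_eq hs Nat.prime_two).mp h2)
        · rw [zero_add, pow_one, hy, hg]
      have hidx : s ^ 1 ∣ N.index := by
        rw [pow_one]
        have h1 : s ∣ Nat.card N * N.index := by
          rw [Subgroup.card_mul_index, hGcard, hk]
          exact ((hsq.mul_right _).mul_left _).mul_left _
        rcases (hs.dvd_mul).mp h1 with h | h
        · rw [ha] at h
          exact absurd ((Nat.prime_dvd_prime_iff_eq hs ht).mp (hs.dvd_of_dvd_pow h)) hst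
        · exact h
      have h1 := pow_dvd_of_normal hs ht hst hna N hidx
      rw [hfac, pow_one] at h1
      exact h1
    -- `s ∤ q ^ 3 - 1`
    have hs3 : ∀ s : ℕ, s.Prime → s ≠ 2 → s ∣ q + 1 → ¬ s ∣ q ^ 3 - 1 := by
      intro s hs hs2 hsq h
      have h1 : s ∣ q ^ 3 + 1 := by
        have : q + 1 ∣ q ^ 3 + 1 ^ 3 := Odd.nat_add_dvd_pow_add_pow q 1 (by decide)
        rw [one_pow] at this
        exact hsq.trans this
      have h2 := Nat.dvd_sub h1 h
      have h3 : 1 ≤ q ^ 3 := Nat.one_le_pow _ _ (by omega)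
      have h4 : q ^ 3 + 1 - (q ^ 3 - 1) = 2 := by omega
      rw [h4] at h2
      exact hs2 ((Nat.prime_dvd_prime_iff_eq hs Nat.prime_two).mp h2)
    rcases hchar with h3f | ⟨hq4, hta⟩
    · have hNq3 : t ^ a = q ^ 3 := by rw [h3f, hf, ← pow_mul, mul_comm]
      by_cases hexs : ∃ s : ℕ, s.Prime ∧ s ≠ 2 ∧ s ∣ q + 1
      · obtain ⟨s, hs, hs2, hsq⟩ := hexs
        apply hs3 s hs hs2 hsq
        rw [← hNq3]
        exact hadj s hs hs2 hsq
      · -- `q + 1` is a power of two
        push Not at hexs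
        have hpow2 : q + 1 = 2 ^ (q + 1).primeFactorsList.length :=
          Nat.eq_prime_pow_of_unique_prime_dvd (by omega) (fun {d} hd hdq => by
            by_contra hne
            exact hexs d hd hne hdq)
        set b := (q + 1).primeFactorsList.length with hb
        have hb2 : 2 ≤ b := by
          by_contra hcon
          have : b ≤ 1 := by omega
          have h1 : 2 ^ b ≤ 2 ^ 1 := Nat.pow_le_pow_right (by norm_num) this
          omega
        have h4q : 4 ∣ q + 1 := by
          rw [hpow2]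
          exact pow_dvd_pow 2 hb2
        have hqmod : q % 4 = 3 := by omega
        -- an element of order 8
        have h8 : ∃ z : G, orderOf z = 8 := by
          obtain ⟨y, hy⟩ := hbig
          obtain ⟨z, hz⟩ := htr' y
          rw [← hz] at hy
          apply exists_pow_order z
          have h8q : 8 ∣ q ^ 2 - 1 := by
            rw [hq2]
            obtain ⟨i, hi⟩ := h4q
            have h2' : 2 ∣ q - 1 := by omega
            obtain ⟨i', hi'⟩ := h2'
            rw [hi, hi']
            exact ⟨i * i', by ring⟩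
          have h8' := h8q.trans hy
          refine Nat.Coprime.dvd_of_dvd_mul_right ?_ h8'
          rcases hc13 with h | h
          · rw [h]; decide
          · rw [h]; decide
        obtain ⟨z, hz⟩ := h8
        -- the action on `N`
        have hP : (MulAut.conjNormal z : MulAut N) ^ 8 = 1 := by
          rw [← map_pow, ← hz, pow_orderOf_eq_one, map_one]
        obtain ⟨v, hv1, hv⟩ := exists_fixed (MulAut.conjNormal z : MulAut N) hP (by
          rw [ha, hNq3, Nat.pow_mod, hqmod])
        have hv' : z ^ 2 * (v : G) * (z ^ 2)⁻¹ = v := by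
          rw [← map_pow] at hv
          have := congrArg Subtype.val hv
          rwa [MulAut.conjNormal_apply] at this
        have hcomm : Commute (z ^ 2) (v : G) := by
          show z ^ 2 * (v : G) = (v : G) * z ^ 2
          calc z ^ 2 * (v : G) = (z ^ 2 * (v : G) * (z ^ 2)⁻¹) * z ^ 2 := by group
            _ = (v : G) * z ^ 2 := by rw [hv']
        have hz2 : orderOf (z ^ 2) = 4 := by
          rw [orderOf_pow' z two_ne_zero, hz]; rfl
        have hvt : orderOf (v : G) = t := by
          rw [Subgroup.orderOf_coe]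
          apply orderOf_eq_prime _ hv1
          exact Subtype.ext (hNe v v.2)
        have ht2 : t ≠ 2 := by
          rintro rfl
          omega
        have hord : orderOf (z ^ 2 * (v : G)) = 4 * t := by
          rw [hcomm.orderOf_mul_eq_mul_orderOf_of_coprime, hz2, hvt]
          rw [hz2, hvt]
          have : (4 : ℕ) = 2 ^ 2 := by norm_num
          rw [this]
          apply Nat.Coprime.pow_left
          exact (Nat.coprime_primes Nat.prime_two ht).mpr ht2.symm
        obtain ⟨y, hy⟩ := htr (z ^ 2 * (v : G))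
        refine hnot (l := 2) (j := 1) (e := 2) Nat.prime_two (by omega) ?_ ?_ le_rfl le_rfl y ?_
        · rcases hc13 with h | h
          · rw [h]; decide
          · rw [h]; decide
        · intro d hd
          rcases Nat.even_or_odd d with he | ho
          · exact he.two_dvd
          · exfalso
            obtain ⟨i, hi⟩ := ho
            have h1 : q ^ d % 4 = 3 := by
              rw [hi, pow_succ, pow_mul, Nat.mul_mod, Nat.pow_mod, Nat.pow_mod q 2, hqmod]
              norm_num
            have h2 : (2 : ℕ) ^ (1 + 1) = 4 := by norm_num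
            rw [h2] at hd
            omega
        · rw [hy, hord]
          norm_num
    · -- `q = 4`
      have h5 := hadj 5 Nat.prime_five (by norm_num) (by rw [hq4])
      rw [hta] at h5
      omega
  · -- other primes
    have hNq : Nat.card N ∣ (q + 1) * (q - 1) ^ 2 := by
      rw [hk] at hNk
      refine Nat.Coprime.dvd_of_dvd_mul_left ?_ hNk
      rw [ha, hf]
      apply Nat.Coprime.pow_left
      apply Nat.Coprime.pow_right
      apply Nat.Coprime.pow_right
      exact (Nat.coprime_primes ht hp).mpr htp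
    by_cases ht2 : t = 2
    · subst ht2
      rw [ha] at hNq hmN hN2
      obtain ⟨hq5, ha5⟩ := ArithL3.two_case (by omega) hc hm.symm hmN hN2 hNq
      -- `|G| = 372000`
      have hc1 : c = 1 := by rw [hc, hq5]; decide
      obtain ⟨y, hy⟩ := hbig
      obtain ⟨z, hz⟩ := htr' y
      rw [hc1, mul_one, ← hz, hq5] at hy
      obtain ⟨w, hw⟩ := exists_pow_order z (a := 4) ((by norm_num : (4 : ℕ) ∣ 5 ^ 2 - 1).trans hy)
      have hidx : ¬ 2 ∣ N.index := by
        have h1 := N.card_mul_index
        rw [hGcard, hk, hq5, ha, ha5] at h1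
        rw [hc1, one_mul, hq5] at hm
        rw [← hm] at h1
        norm_num at h1
        omega
      have hwN : w ∈ N := by
        have h1 : orderOf (QuotientGroup.mk' N w) ∣ 4 := by
          rw [← hw]; exact orderOf_map_dvd _ _
        have h2 : orderOf (QuotientGroup.mk' N w) ∣ N.index := orderOf_dvd_natCard _
        have h3 : Nat.Coprime 4 N.index := by
          have : (4 : ℕ) = 2 ^ 2 := by norm_num
          rw [this]
          apply Nat.Coprime.pow_left
          exact (Nat.Prime.coprime_iff_not_dvd Nat.prime_two).mpr hidx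
        have h4 := Nat.dvd_gcd h1 h2
        rw [h3] at h4
        have h5 := orderOf_eq_one_iff.mp (Nat.dvd_one.mp h4)
        exact (QuotientGroup.eq_one_iff w).mp h5
      have h1 := hNe w hwN
      have h2 := orderOf_dvd_of_pow_eq_one h1
      rw [hw] at h2
      omega
    · refine ArithL3.odd_case (by omega) hc hm.symm hmN hN2 ?_
      by_cases h1 : t ∣ q + 1
      · left
        have h2 : ¬ t ∣ q - 1 := by
          intro h
          have := Nat.dvd_sub h1 h
          have h2 : q + 1 - (q - 1) = 2 := by omega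
          rw [h2] at this
          exact ht2 ((Nat.prime_dvd_prime_iff_eq ht Nat.prime_two).mp this)
        refine Nat.Coprime.dvd_of_dvd_mul_right ?_ hNq
        rw [ha]
        apply Nat.Coprime.pow_left
        apply Nat.Coprime.pow_right
        exact (Nat.Prime.coprime_iff_not_dvd ht).mpr h2
      · right
        refine Nat.Coprime.dvd_of_dvd_mul_left ?_ hNq
        rw [ha]
        apply Nat.Coprime.pow_left
        exact (Nat.Prime.coprime_iff_not_dvd ht).mpr h1

end Cfsg.Agent.H363.PslThree
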